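import Groth.Agent.Sga3.H824.TorVal
import Groth.Agent.Sga3.H832.ImmCore

/-!
# The torus lemma in the form used by `H832.ImmCore.mem_of_generic_of_closed`
-/

set_option autoImplicit false

universe u

open CategoryTheory MonoidalCategory CartesianMonoidalCategory MonObj GrpObj AlgebraicGeometry Limits
open IsLocalRing

namespace Groth.Agent.Sga3.H824.TorCore

open Groth.Agent.Sga3.H824.DsPt
open Groth.Agent.Sga3.H832.TorExt (gen)

variable {R K : Type u} [CommRing R] [IsDomain R] [ValuationRing R] [Field K] [Algebra R K]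
  [IsFractionRing R K] {T G H : Over (Spec (CommRingCat.of R))} [GrpObj T] [GrpObj G] [GrpObj H]

/-- `T` a split torus over a valuation ring `R`, `v : T ⟶ H` a monomorphism of group schemes, `h ∈ H(R)` whose
generic point is in `T(K)` and whose closed point is in the image of `T`: then `h ∈ T(R)`. -/
theorem exists_lift {M : Type} [AddCommGroup M] [UniqueProds (Multiplicative M)] [Module.Free ℤ M]
    (hT : Red.IsSplitTorusWith M T) (v : T ⟶ H) [IsMonHom v] [Mono v]
    (t : gen R K ⟶ T) (h : 𝟙_ (Over (Spec (CommRingCat.of R))) ⟶ H) (ht : t ≫ v = toUnit _ ≫ h)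
    (hc : h.left (closedPoint R) ∈ Set.range v.left) :
    ∃ t' : 𝟙_ (Over (Spec (CommRingCat.of R))) ⟶ T, t' ≫ v = h := by
  obtain ⟨e⟩ := hT
  let ei : T ≅ Red.DS (Spec (CommRingCat.of R)) M := (Grp.forget _).mapIso e
  have hei : IsMonHom ei.inv := inferInstanceAs (IsMonHom e.inv.hom.hom)
  let v' : Red.DS (Spec (CommRingCat.of R)) M ⟶ H := ei.inv ≫ v
  have hv' : Mono v' := mono_comp _ _
  have hvl : Mono v.left := inferInstance
  let r : Spec (CommRingCat.of R) ⟶ Spec (CommRingCat.of R) := 𝟙 _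
  let h' : Over.mk r ⟶ H := h
  obtain ⟨b₀, hb₀⟩ := ImmVal.exists_lift_of_mem_range v.left (k := CommRingCat.of (ResidueField R))
    (Spec.map (CommRingCat.ofHom (residue R)) ≫ h.left) (closedPoint (ResidueField R)) (by
      rw [Scheme.Hom.comp_apply]
      have : Spec.map (CommRingCat.ofHom (residue R)) (closedPoint (ResidueField R)) = closedPoint R :=
        comap_closedPoint (residue R)
      rw [this]
      exact hc)
  let tK : Over.mk (Spec.map (CommRingCat.ofHom (algebraMap R K)) ≫ r) ⟶ T :=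
    Over.homMk t.left ((Over.w t).trans (Category.comp_id _).symm)
  let tk : Over.mk (Spec.map (CommRingCat.ofHom (residue R)) ≫ r) ⟶ T :=
    Over.homMk b₀ (by
      rw [← Over.w v, ← Category.assoc, hb₀, Category.assoc, Over.w h]
      rfl)
  obtain ⟨t', ht'⟩ := TorVal.exists_lift (K := K) v' r h' (tK ≫ ei.hom) (by
    simp only [v']
    rw [Category.assoc, ei.hom_inv_id_assoc]
    ext1
    have h1 := congr($(ht).left)
    rw [Over.comp_left, Over.comp_left] at h1 ⊢
    refine h1.trans ?_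
    rw [Over.toUnit_left]
    rfl) (tk ≫ ei.hom) (by
    simp only [v']
    rw [Category.assoc, ei.hom_inv_id_assoc]
    ext1
    rw [Over.comp_left, Over.comp_left]
    exact hb₀)
  exact ⟨t' ≫ ei.inv, by rw [Category.assoc]; exact ht'⟩

instance (r : ℕ) : UniqueProds (Multiplicative (Fin r → ℤ)) := inferInstance

/-- The hypothesis (T) of `H832.ImmCore.mem_of_generic_of_closed`. -/
theorem hT {r : ℕ} (hT : Red.IsSplitTorusWith (Fin r → ℤ) T) (u : G ⟶ H) [IsMonHom u] [Mono u]
    (i : T ⟶ G) [IsMonHom i] [Mono i] (t : gen R K ⟶ T)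
    (h : 𝟙_ (Over (Spec (CommRingCat.of R))) ⟶ H) (ht : t ≫ i ≫ u = toUnit _ ≫ h)
    (hc : h.left (closedPoint R) ∈ Set.range (i ≫ u).left) :
    ∃ t' : 𝟙_ (Over (Spec (CommRingCat.of R))) ⟶ T, t' ≫ i ≫ u = h :=
  have : Mono (i ≫ u) := mono_comp _ _
  exists_lift hT (i ≫ u) t h ht hc

end Groth.Agent.Sga3.H824.TorCore
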