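import Mathlib.AlgebraicGeometry.ZariskisMainTheorem
import Mathlib.AlgebraicGeometry.ValuativeCriterion
import Mathlib.AlgebraicGeometry.Morphisms.Immersion
import Mathlib.AlgebraicGeometry.Morphisms.FlatMono
import Mathlib.RingTheory.Flat.TorsionFree
import Groth.Agent.Sga3C.GenPts

/-!
# A valuative criterion for immersions (general valuation rings)

`f : X ⟶ Y` a quasi-compact monomorphism locally of finite type.  If for every valuation ring `R` with
fraction field `K` and every `y : Spec R ⟶ Y` such that the generic and the closed point of `y` lift to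
`X`, the morphism `y` lifts to `X`, then `f` is an immersion.  No noetherian hypothesis.
-/

set_option autoImplicit false

universe u

open CategoryTheory Limits AlgebraicGeometry IsLocalRing

namespace Groth.Agent.Sga3.H824.ImmVal

/-- A field valued point of `Y` in the image of a monomorphism `f : X ⟶ Y` lifts to `X`. -/
theorem exists_lift_of_mem_range {X Y : Scheme.{u}} (f : X ⟶ Y) [Mono f] {k : Type u} [Field k]
    (y : Spec (CommRingCat.of k) ⟶ Y) (s : Spec (CommRingCat.of k)) (hy : y s ∈ Set.range f) :
    ∃ x : Spec (CommRingCat.of k) ⟶ X, x ≫ f = y := by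
  let p := pullback.fst y f
  obtain ⟨x, hx⟩ := hy
  obtain ⟨z, hz, -⟩ := Scheme.Pullback.exists_preimage_pullback s x hx.symm
  have : Subsingleton (Spec (CommRingCat.of k)) :=
    inferInstanceAs (Subsingleton (PrimeSpectrum k))
  have hinj : Function.Injective p := p.injective
  have hsub : Subsingleton ↥(pullback y f) := ⟨fun a b ↦ hinj (Subsingleton.elim _ _)⟩
  have h1 : Surjective p := ⟨fun t ↦ ⟨z, Subsingleton.elim _ _⟩⟩
  have h2 : QuasiCompact p := ⟨fun U _ _ ↦ (Set.toFinite _).isCompact⟩
  have h3 : Flat p := inferInstance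
  have h4 : IsIso p := Flat.isIso_of_surjective_of_mono p
  exact ⟨inv p ≫ pullback.snd y f, by rw [Category.assoc, ← pullback.condition]; simp [p]⟩

/-- Key step: under the valuative condition the boundary of `X` in its normalization over `Y` does
not meet the fibres over points of `f(X)`. -/
theorem mem_range_toNormalization {X Y : Scheme.{u}} (f : X ⟶ Y) [Mono f] [QuasiCompact f]
    [LocallyOfFiniteType f]
    (H : ∀ (R : Type u) [CommRing R] [IsDomain R] [ValuationRing R] (K : Type u) [Field K]
      [Algebra R K] [IsFractionRing R K] (y : Spec (CommRingCat.of R) ⟶ Y)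
      (a : Spec (CommRingCat.of K) ⟶ X) (b : Spec (CommRingCat.of (ResidueField R)) ⟶ X),
      a ≫ f = Spec.map (CommRingCat.ofHom (algebraMap R K)) ≫ y →
      b ≫ f = Spec.map (CommRingCat.ofHom (residue R)) ≫ y → ∃ l : Spec (CommRingCat.of R) ⟶ X, l ≫ f = y)
    (z : f.normalization) (hz : f.fromNormalization z ∈ Set.range f) :
    z ∈ Set.range f.toNormalization := by
  obtain ⟨x₁, hx₁⟩ := Sga3C.GenPts.exists_specializes_of_mem_closure_range f.toNormalization z
    (by rw [f.toNormalization.denseRange.closure_range]; trivial)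
  let φ : f.normalization.presheaf.stalk z ⟶ X.residueField x₁ :=
    f.normalization.presheaf.stalkSpecializes hx₁ ≫ f.toNormalization.stalkMap x₁ ≫ X.residue x₁
  obtain ⟨A, hA, hA_local⟩ := exists_factor_valuationRing φ.hom
  let ψ : f.normalization.presheaf.stalk z ⟶ .of A :=
    CommRingCat.ofHom (φ.hom.codRestrict _ hA)
  let n : Spec (CommRingCat.of A) ⟶ f.normalization := Spec.map ψ ≫ f.normalization.fromSpecStalk z
  have w : X.fromSpecResidueField x₁ ≫ f.toNormalization =
      Spec.map (CommRingCat.ofHom (algebraMap A (X.residueField x₁))) ≫ n := by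
    rw [Scheme.fromSpecResidueField, Category.assoc, ← Scheme.SpecMap_stalkMap_fromSpecStalk,
      ← Scheme.SpecMap_stalkSpecializes_fromSpecStalk hx₁]
    simp_rw [n, ← Spec.map_comp_assoc]
    rfl
  have hn : n (closedPoint A) = z := by
    simp only [n, Scheme.Hom.comp_base, TopCat.coe_comp, Function.comp_apply]
    have : Spec.map ψ (closedPoint A) = closedPoint (f.normalization.presheaf.stalk z) :=
      comap_closedPoint (S := A) (φ.hom.codRestrict A.toSubring hA)
    rw [this, f.normalization.fromSpecStalk_closedPoint]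
  let y : Spec (CommRingCat.of A) ⟶ Y := n ≫ f.fromNormalization
  have ha : X.fromSpecResidueField x₁ ≫ f =
      Spec.map (CommRingCat.ofHom (algebraMap A (X.residueField x₁))) ≫ y := by
    rw [← Category.assoc, ← w, Category.assoc, Scheme.Hom.toNormalization_fromNormalization]
  obtain ⟨b, hb⟩ := exists_lift_of_mem_range f
    (Spec.map (CommRingCat.ofHom (residue A)) ≫ y) (closedPoint (ResidueField A)) (by
      have h1 : Spec.map (CommRingCat.ofHom (residue A)) (closedPoint (ResidueField A)) =
          closedPoint A := comap_closedPoint (residue A)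
      rw [Scheme.Hom.comp_apply, h1]
      simp only [y, Scheme.Hom.comp_apply, hn]
      exact hz)
  obtain ⟨l, hl⟩ := H A (X.residueField x₁) y (X.fromSpecResidueField x₁) b ha hb
  -- the two lifts agree
  have hgen : Spec.map (CommRingCat.ofHom (algebraMap A (X.residueField x₁))) ≫ l =
      X.fromSpecResidueField x₁ := by
    rw [← cancel_mono f, Category.assoc, hl, ha]
  have key : l ≫ f.toNormalization = n := by
    let S : ValuativeCommSq f.fromNormalization :=
      { R := A, K := X.residueField x₁, i₁ := X.fromSpecResidueField x₁ ≫ f.toNormalization,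
        i₂ := y, commSq := ⟨by
          rw [Category.assoc, Scheme.Hom.toNormalization_fromNormalization, ha]⟩ }
    have := IsSeparated.valuativeCriterion f.fromNormalization S
    have h : (⟨l ≫ f.toNormalization, by rw [← Category.assoc, hgen], by
        rw [Category.assoc, Scheme.Hom.toNormalization_fromNormalization, hl]⟩ :
        S.commSq.LiftStruct) = ⟨n, w.symm, rfl⟩ := Subsingleton.elim _ _
    exact congrArg CommSq.LiftStruct.l h
  refine ⟨l (closedPoint A), ?_⟩
  rw [← Scheme.Hom.comp_apply, key, hn]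

theorem isIntegralHom_restrict_comp {X N Y : Scheme.{u}} (j : X ⟶ N) (p : N ⟶ Y) [IsOpenImmersion j]
    [IsIntegralHom p] (V : Y.Opens) (hV : ∀ z : N, p z ∈ V → z ∈ Set.range j) :
    IsIntegralHom ((j ≫ p) ∣_ V) := by
  have h1 : IsIso (j ∣_ (p ⁻¹ᵁ V)) := by
    rw [isIso_iff_isOpenImmersion_and_surjective]
    refine ⟨inferInstance, ⟨?_⟩⟩
    rintro ⟨z, hz⟩
    obtain ⟨x, rfl⟩ := hV z hz
    exact ⟨⟨x, hz⟩, Subtype.ext (by simp)⟩
  rw [morphismRestrict_comp]
  have h2 : IsIntegralHom (p ∣_ V) := IsZariskiLocalAtTarget.restrict ‹_› V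
  exact (MorphismProperty.cancel_left_of_respectsIso @IsIntegralHom (j ∣_ (p ⁻¹ᵁ V)) (p ∣_ V)).mpr h2

/-- **Valuative criterion for immersions** over arbitrary bases. -/
theorem isImmersion_of_valuative {X Y : Scheme.{u}} (f : X ⟶ Y) [Mono f] [QuasiCompact f]
    [LocallyOfFiniteType f]
    (H : ∀ (R : Type u) [CommRing R] [IsDomain R] [ValuationRing R] (K : Type u) [Field K]
      [Algebra R K] [IsFractionRing R K] (y : Spec (CommRingCat.of R) ⟶ Y)
      (a : Spec (CommRingCat.of K) ⟶ X) (b : Spec (CommRingCat.of (ResidueField R)) ⟶ X),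
      a ≫ f = Spec.map (CommRingCat.ofHom (algebraMap R K)) ≫ y →
      b ≫ f = Spec.map (CommRingCat.ofHom (residue R)) ≫ y →
      ∃ l : Spec (CommRingCat.of R) ⟶ X, l ≫ f = y) : IsImmersion f := by
  have hcl : IsClosed (f.fromNormalization '' (Set.range f.toNormalization)ᶜ) :=
    f.fromNormalization.isClosedMap _ f.toNormalization.isOpenEmbedding.isOpen_range.isClosed_compl
  let V : Y.Opens := ⟨(f.fromNormalization '' (Set.range f.toNormalization)ᶜ)ᶜ, hcl.isOpen_compl⟩
  have hfV : Set.range f ⊆ V := by
    rintro y hy ⟨z, hz, rfl⟩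
    exact hz (mem_range_toNormalization f H z hy)
  have hV : IsClosedImmersion (f ∣_ V) := by
    have h2 : IsIntegralHom (f ∣_ V) := by
      have h3 := isIntegralHom_restrict_comp f.toNormalization f.fromNormalization V
        (fun z hz ↦ by
          by_contra h
          exact hz ⟨z, h, rfl⟩)
      convert h3 <;> simp
    have h4 : IsFinite (f ∣_ V) :=
      (IsFinite.iff_isIntegralHom_and_locallyOfFiniteType _).mpr ⟨h2, inferInstance⟩
    have h5 : Mono (f ∣_ V) :=
      (isPullback_morphismRestrict f V).mono_fst_of_mono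
    exact (IsClosedImmersion.iff_isFinite_and_mono _).mpr ⟨h4, h5⟩
  let g : X ⟶ (V : Scheme.{u}) := IsOpenImmersion.lift V.ι f (by simpa using hfV)
  have hg : g ≫ V.ι = f := IsOpenImmersion.lift_fac _ _ _
  rw [← hg]
  have h5 : IsClosedImmersion g := by
    have h6 : f ⁻¹ᵁ V = ⊤ := by
      ext x
      simpa using hfV ⟨x, rfl⟩
    have h7 : g = X.topIso.inv ≫ (X.isoOfEq h6).inv ≫ (f ∣_ V) := by
      rw [← cancel_mono V.ι, hg]
      simp
    rw [h7]
    infer_instance
  infer_instance

/-- **Valuative criterion for closed immersions** (monomorphisms), by Mathlib's criterion for properness. -/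
theorem isClosedImmersion_of_valuative {X Y : Scheme.{u}} (f : X ⟶ Y) [Mono f] [QuasiCompact f]
    [LocallyOfFiniteType f]
    (H : ∀ (R : Type u) [CommRing R] [IsDomain R] [ValuationRing R] (K : Type u) [Field K]
      [Algebra R K] [IsFractionRing R K] (y : Spec (CommRingCat.of R) ⟶ Y)
      (a : Spec (CommRingCat.of K) ⟶ X),
      a ≫ f = Spec.map (CommRingCat.ofHom (algebraMap R K)) ≫ y →
      ∃ l : Spec (CommRingCat.of R) ⟶ X, l ≫ f = y) : IsClosedImmersion f := by
  have hE : ValuativeCriterion.Existence f := by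
    intro S
    obtain ⟨l, hl⟩ := H S.R S.K S.i₂ S.i₁ S.commSq.w
    exact ⟨⟨l, by rw [← cancel_mono f, Category.assoc, hl, S.commSq.w], hl⟩⟩
  have h1 : UniversallyClosed f := UniversallyClosed.of_valuativeCriterion f hE
  have h2 : IsProper f := {}
  exact (IsClosedImmersion.iff_isProper_and_mono _).mpr ⟨h2, inferInstance⟩

/-- Lifts along a monomorphism descend along faithfully flat quasi-compact morphisms. -/
theorem exists_lift_of_fpqc {X Y T T' : Scheme.{u}} (f : X ⟶ Y) [Mono f] (q : T' ⟶ T) [Flat q]
    [Surjective q] [QuasiCompact q] (y : T ⟶ Y) (l' : T' ⟶ X) (h : l' ≫ f = q ≫ y) :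
    ∃ l : T ⟶ X, l ≫ f = y := by
  have hp : IsIso (pullback.fst y f) := by
    refine MorphismProperty.of_pullback_fst_of_descendsAlong
      (P := MorphismProperty.isomorphisms Scheme.{u}) (Q := @Surjective ⊓ @Flat ⊓ @QuasiCompact)
      (f := q) (g := pullback.fst y f) ⟨⟨inferInstance, inferInstance⟩, inferInstance⟩ ?_
    change IsIso (pullback.fst q (pullback.fst y f))
    let s : T' ⟶ pullback q (pullback.fst y f) :=
      pullback.lift (𝟙 T') (pullback.lift q l' h.symm) (by
        rw [Category.id_comp]; exact (pullback.lift_fst _ _ _).symm)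
    have hs : s ≫ pullback.fst q (pullback.fst y f) = 𝟙 T' := pullback.lift_fst _ _ _
    have : IsSplitEpi (pullback.fst q (pullback.fst y f)) := ⟨⟨s, hs⟩⟩
    exact isIso_of_mono_of_isSplitEpi _
  exact ⟨inv (pullback.fst y f) ≫ pullback.snd y f, by
    rw [Category.assoc, ← pullback.condition]; simp⟩

/-- Variant for local injective extensions of valuation rings. -/
theorem exists_lift_of_extension {X Y : Scheme.{u}} (f : X ⟶ Y) [Mono f] {R R' : Type u}
    [CommRing R] [IsDomain R] [ValuationRing R] [CommRing R'] [IsDomain R'] [IsLocalRing R']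
    (φ : R →+* R') (hφ : Function.Injective φ) [IsLocalHom φ] (y : Spec (CommRingCat.of R) ⟶ Y)
    (l' : Spec (CommRingCat.of R') ⟶ X) (h : l' ≫ f = Spec.map (CommRingCat.ofHom φ) ≫ y) :
    ∃ l : Spec (CommRingCat.of R) ⟶ X, l ≫ f = y := by
  algebraize [φ]
  have h0 : Module.IsTorsionFree R R' := Module.isTorsionFree_iff_algebraMap_injective.mpr hφ
  have h1 : Module.Flat R R' := by
    rw [Module.Flat.flat_iff_torsion_eq_bot_of_isBezout, ← Submodule.isTorsionFree_iff_torsion_eq_bot]
    exact h0
  have h5 : IsLocalHom (algebraMap R R') := ‹IsLocalHom φ›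
  have h2 : Module.FaithfullyFlat R R' := Module.FaithfullyFlat.of_flat_of_isLocalHom
  obtain ⟨h3, h4⟩ := (flat_and_surjective_SpecMap_iff (CommRingCat.ofHom φ)).mpr
    ((RingHom.faithfullyFlat_algebraMap_iff (R := R) (S := R')).mpr h2)
  exact exists_lift_of_fpqc f (Spec.map (CommRingCat.ofHom φ)) y l' h

end Groth.Agent.Sga3.H824.ImmVal
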