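import Groth.Agent.Sga3.H824.NormMono
import Groth.Agent.Sga3.H832.ImmCore
import Groth.Agent.Sga3C.CentDom
import Groth.Agent.Sga3B.Parab.CellPts
import Groth.Agent.Sga3B.TorusIrr
import Groth.Agent.Dix.NormalLoc

/-!
# Homomorphisms from smooth connected groups which are generically in a subgroup

`R` a valuation ring (or any local integrally closed domain), `T` a smooth `R`-group with geometrically
irreducible fibres, `u : G ⟶ H` a monomorphism of `R`-groups, quasi-compact and locally of finite type.  A
homomorphism `φ : T ⟶ H` with `φ_K` in `G_K` is in `G`.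
-/

set_option autoImplicit false

universe u

open CategoryTheory MonoidalCategory CartesianMonoidalCategory MonObj GrpObj AlgebraicGeometry Limits
open IsLocalRing

namespace Groth.Agent.Sga3.H824.AxiomA

open Groth.Agent.Sga3.H832.TorExt (gen)
open Groth.Agent.Sga3B.Parab.ConjPt Groth.Agent.Sga3B.Parab.ConjGlue

section mul

variable {S : Scheme.{u}} {T : Over S} [GrpObj T]

/-- multiplication of two points of an open subscheme -/
noncomputable abbrev mm {Y : Over S} (i : Y ⟶ T) : Y ⊗ Y ⟶ T := (i ⊗ₘ i) ≫ μ[T]

theorem isOpenImmersion_tensor {Y Y' Z Z' : Over S} (i : Y ⟶ Z) (j : Y' ⟶ Z') [IsOpenImmersion i.left]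
    [IsOpenImmersion j.left] : IsOpenImmersion (i ⊗ₘ j).left := by
  have h : (i ⊗ₘ j).left = pullback.map _ _ _ _ i.left j.left (𝟙 _) (by
    rw [Category.comp_id]; exact (Over.w i).symm) (by
    rw [Category.comp_id]; exact (Over.w j).symm) := by
    apply pullback.hom_ext
    · rw [pullback.lift_fst]
      exact congr($(tensorHom_fst i j).left)
    · rw [pullback.lift_snd]
      exact congr($(tensorHom_snd i j).left)
  rw [h]
  infer_instance

theorem flat_mm {Y : Over S} (i : Y ⟶ T) [IsOpenImmersion i.left] [Flat T.hom] : Flat (mm i).left := by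
  have h1 := isOpenImmersion_tensor i i
  have h2 := Sga3C.CentDom.flat_mul (G := T)
  rw [Over.comp_left]
  infer_instance

theorem surjective_mm {Y : Over S} (i : Y ⟶ T) [IsOpenImmersion i.left] [LocallyOfFiniteType T.hom]
    [GeometricallyIrreducible T.hom] (h : Mem i (1 : 𝟙_ (Over S) ⟶ T)) : Surjective (mm i).left := by
  refine ⟨fun t ↦ ?_⟩
  let Ω := AlgebraicClosure (T.left.residueField t)
  let g₀ : Spec (CommRingCat.of Ω) ⟶ T.left :=
    Spec.map (CommRingCat.ofHom (algebraMap (T.left.residueField t) Ω)) ≫ T.left.fromSpecResidueField t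
  let x : Spec (CommRingCat.of Ω) ⟶ S := g₀ ≫ T.hom
  let g : Over.mk x ⟶ T := Over.homMk g₀ rfl
  have hirr : IrreducibleSpace (Red.bc x T).left := by
    have : GeometricallyIrreducible (pullback.snd T.hom x) := inferInstance
    have : Subsingleton (Spec (CommRingCat.of Ω)) := inferInstanceAs (Subsingleton (PrimeSpectrum Ω))
    have : Nonempty (Spec (CommRingCat.of Ω)) := inferInstanceAs (Nonempty (PrimeSpectrum Ω))
    exact GeometricallyIrreducible.irreducibleSpace_of_subsingleton (pullback.snd T.hom x)
  obtain ⟨k, ⟨a, ha⟩, ⟨b, hb⟩⟩ := Sga3B.Parab.CellPts.exists_mul x i (by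
    obtain ⟨e, he⟩ := h
    exact ⟨toUnit _ ≫ e, by rw [Category.assoc, he, MonObj.comp_one]⟩) g
  have h1 : lift a b ≫ mm i = g := by
    rw [mm, ← Category.assoc, lift_map, ha, hb, ← Hom.mul_def, mul_inv_cancel_left]
  have hg : g.left (closedPoint Ω) = t := by
    change g₀ _ = t
    simp only [g₀]
    rw [Scheme.Hom.comp_apply]
    exact Scheme.fromSpecResidueField_apply _ _
  refine ⟨(lift a b).left (closedPoint Ω), ?_⟩
  rw [← Scheme.Hom.comp_apply, ← Over.comp_left, h1, hg]

end mul

variable {R K : Type u} [CommRing R] [IsDomain R] [IsIntegrallyClosed R] [Field K] [Algebra R K]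
  [IsFractionRing R K] {T G H : Over (Spec (CommRingCat.of R))} [GrpObj T] [GrpObj G] [GrpObj H]

theorem exists_factor [Smooth T.hom] [GeometricallyIrreducible T.hom] [QuasiCompact T.hom]
    [QuasiSeparated T.hom] (u : G ⟶ H) [IsMonHom u] [Mono u] [QuasiCompact u.left]
    [LocallyOfFiniteType u.left] (φ : T ⟶ H) [IsMonHom φ]
    (hψ : ∃ ψ : T ⊗ gen R K ⟶ G, ψ ≫ u = fst _ _ ≫ φ) : ∃ j : T ⟶ G, j ≫ u = φ := by
  obtain ⟨ψ, hψ⟩ := hψ
  -- `T` is integral and normal
  have hS : IsIntegral (Spec (CommRingCat.of R)) := inferInstance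
  have hTn := fun t : T.left ↦ (Dix.NormalLoc.stalk_of_smooth T.hom t)
  have hTirr : IrreducibleSpace T.left :=
    GeometricallyIrreducible.irreducibleSpace T.hom T.hom.isOpenMap
  have hTred : IsReduced T.left := by
    have := fun t ↦ (hTn t).1
    exact isReduced_of_isReduced_stalk T.left
  have hTint : IsIntegral T.left := isIntegral_of_irreducibleSpace_of_isReduced _
  -- the pull back
  let p : pullback φ.left u.left ⟶ T.left := pullback.fst φ.left u.left
  have hum : Mono u.left := inferInstance
  have hp1 : Mono p := inferInstance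
  have hp2 : QuasiCompact p := inferInstance
  have hp3 : LocallyOfFiniteType p := inferInstance
  have hη : ∀ s : Spec (CommRingCat.of K), Spec.map (CommRingCat.ofHom (algebraMap R K)) s =
      genericPoint (Spec (CommRingCat.of R)) := by
    intro s
    refine Specializes.antisymm ?_ (genericPoint_specializes _) |>.eq
    refine (PrimeSpectrum.le_iff_specializes _ _).mp ?_
    intro a ha
    have h1 : algebraMap R K a ∈ s.asIdeal := ha
    have h2 : algebraMap R K a = 0 := by
      by_contra h
      exact s.2.ne_top (Ideal.eq_top_of_isUnit_mem _ h1 (IsUnit.mk0 _ h))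
    rw [IsFractionRing.injective R K (h2.trans (map_zero _).symm)]
    exact Ideal.zero_mem _
  -- the generic fibre
  let g : (T ⊗ gen R K).left ⟶ T.left := (fst T (gen R K)).left
  let gP : (T ⊗ gen R K).left ⟶ pullback φ.left u.left := pullback.lift g ψ.left (by
    simp only [g]
    rw [← Over.comp_left, ← Over.comp_left, hψ])
  have hgP : gP ≫ p = g := pullback.lift_fst _ _ _
  have hirr : IrreducibleSpace (T ⊗ gen R K).left := by
    have : GeometricallyIrreducible (pullback.snd T.hom (gen R K).hom) := inferInstance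
    have : Subsingleton (Spec (CommRingCat.of K)) := inferInstanceAs (Subsingleton (PrimeSpectrum K))
    have : Nonempty (Spec (CommRingCat.of K)) := inferInstanceAs (Nonempty (PrimeSpectrum K))
    exact GeometricallyIrreducible.irreducibleSpace_of_subsingleton
      (pullback.snd T.hom (Spec.map (CommRingCat.ofHom (algebraMap R K))))
  let θ : (T ⊗ gen R K).left := genericPoint (T ⊗ gen R K).left
  have hθ : ∀ z, θ ⤳ z := fun z ↦ genericPoint_specializes z
  have hgθ : g θ = genericPoint T.left := by
    have h1 : T.hom (genericPoint T.left) = genericPoint (Spec (CommRingCat.of R)) := by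
      have hd : closure (Set.range T.hom) = Set.univ := by
        rw [Set.range_eq_univ.mpr T.hom.surjective, closure_univ]
      apply ((genericPoint_spec (Spec (CommRingCat.of R))).eq _).symm
      have := (genericPoint_spec T.left).image T.hom.continuous
      rw [Set.image_univ, hd] at this
      exact this
    obtain ⟨z, hz, -⟩ := Scheme.Pullback.exists_preimage_pullback (f := T.hom)
      (g := Spec.map (CommRingCat.ofHom (algebraMap R K))) (genericPoint T.left) (closedPoint K)
      (h1.trans (hη _).symm)
    refine Specializes.antisymm ?_ (genericPoint_specializes _) |>.eq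
    have h2 := (hθ z).map g.continuous
    have h3 : g z = genericPoint T.left := hz
    rwa [h3] at h2
  -- the open subscheme
  obtain ⟨V, i, hi, hop, hrange⟩ := NormMono.exists_open (fun t ↦ (hTn t).2) p (gP θ) (by
    rw [← Scheme.Hom.comp_apply, hgP, hgθ])
  let Y : Over (Spec (CommRingCat.of R)) := Over.mk ((i ≫ p) ≫ T.hom)
  let iT : Y ⟶ T := Over.homMk (i ≫ p)
  let iG : Y ⟶ G := Over.homMk (i ≫ pullback.snd φ.left u.left) (by
    simp only [Y, Over.mk_hom, p]
    rw [← Over.w u, ← Over.w φ]
    simp only [Category.assoc]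
    rw [pullback.condition_assoc])
  have hiG : iG ≫ u = iT ≫ φ := by
    ext1
    simp only [iG, iT, Over.comp_left, Over.homMk_left, p]
    rw [Category.assoc, Category.assoc, pullback.condition]
  have hiT : IsOpenImmersion iT.left := hop
  have hmem : Mem iT (1 : 𝟙_ (Over (Spec (CommRingCat.of R))) ⟶ T) := by
    let e : 𝟙_ (Over (Spec (CommRingCat.of R))) ⟶ T := 1
    let eG : 𝟙_ (Over (Spec (CommRingCat.of R))) ⟶ G := 1
    have he : e ≫ φ = eG ≫ u := by
      simp only [e, eG]
      rw [MonObj.one_comp, MonObj.one_comp]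
    let eP : Spec (CommRingCat.of R) ⟶ pullback φ.left u.left :=
      pullback.lift e.left eG.left (congr($he |>.left))
    have heP : eP ≫ p = e.left := pullback.lift_fst _ _ _
    let eK : gen R K ⟶ T ⊗ gen R K := lift 1 (𝟙 _)
    have h1 : eK.left ≫ gP = Spec.map (CommRingCat.ofHom (algebraMap R K)) ≫ eP := by
      rw [← cancel_mono p, Category.assoc, Category.assoc, hgP, heP]
      have h2 : eK ≫ fst T (gen R K) = toUnit _ ≫ e := by
        simp only [eK, e]
        rw [lift_fst, MonObj.comp_one]
      have h3 := congr($h2 |>.left)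
      rw [Over.comp_left, Over.comp_left, Over.toUnit_left] at h3
      exact h3
    have h2 : ∀ s : Spec (CommRingCat.of R), gP θ ⤳ eP s := by
      intro s
      have h3 := (hθ (eK.left (closedPoint K))).map gP.continuous
      have h4 : gP (eK.left (closedPoint K)) = eP (genericPoint (Spec (CommRingCat.of R))) := by
        rw [← hη (closedPoint K)]
        exact congr($h1 (closedPoint K))
      rw [h4] at h3
      exact h3.trans ((genericPoint_specializes s).map eP.continuous)
    apply mem_of_isOpenImmersion
    rintro _ ⟨s, rfl⟩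
    have h3 : eP s ∈ Set.range i := by
      rw [hrange]
      exact (h2 s).mem_closure
    obtain ⟨v, hv⟩ := h3
    refine ⟨v, ?_⟩
    change (i ≫ p) v = e.left s
    rw [← heP, Scheme.Hom.comp_apply, Scheme.Hom.comp_apply, hv]
  have hf := flat_mm iT
  have hs := surjective_mm iT hmem
  have hq : QuasiCompact (mm iT).left := by
    have h1 : QuasiCompact Y.hom := inferInstanceAs (QuasiCompact ((i ≫ p) ≫ T.hom))
    have h2 : QuasiCompact (Y ⊗ Y).hom :=
      inferInstanceAs (QuasiCompact (pullback.fst Y.hom Y.hom ≫ Y.hom))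
    have h3 : QuasiCompact ((mm iT).left ≫ T.hom) := by rwa [Over.w]
    exact QuasiCompact.of_comp _ T.hom
  obtain ⟨l, hl⟩ := ImmVal.exists_lift_of_fpqc u.left (mm iT).left φ.left (mm iG).left (by
    rw [← Over.comp_left, ← Over.comp_left]
    congr 1
    simp only [mm]
    rw [Category.assoc, Category.assoc, IsMonHom.mul_hom, IsMonHom.mul_hom, ← Category.assoc,
      ← Category.assoc, tensorHom_comp_tensorHom, tensorHom_comp_tensorHom, hiG])
  refine ⟨Over.homMk l ?_, ?_⟩
  · rw [← Over.w u, ← Category.assoc, hl, Over.w]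
  · ext1
    exact hl

/-- The hypothesis (A) of `H832.ImmCore.mem_of_generic_of_closed`: homomorphisms from tori to `H` which are
generically in `G` are in `G`. -/
theorem hA (hT : Red.IsTorus T) (u : G ⟶ H) [IsMonHom u] [Mono u] [QuasiCompact u.left]
    [LocallyOfFiniteType u.left] (φ : T ⟶ H) (hφ : IsMonHom φ)
    (hψ : ∃ ψ : T ⊗ gen R K ⟶ G, ψ ≫ u = fst _ _ ≫ φ) : ∃ j : T ⟶ G, j ≫ u = φ :=
  have := Sga3B.TorusAlgClosed.smooth_of_isTorus hT
  have := Sga3B.TorusAlgClosed.isAffineHom_of_isTorus hT
  have := Sga3B.TorusIrr.geometricallyIrreducible_of_isTorus hT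
  exists_factor u φ hψ

end Groth.Agent.Sga3.H824.AxiomA
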