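import Groth.Agent.Sga3B.DSPts

/-!
# Points of `D_S(M)` with values in rings, as characters
-/

set_option autoImplicit false

universe u

open CategoryTheory MonoidalCategory CartesianMonoidalCategory MonObj GrpObj AlgebraicGeometry Limits

namespace Groth.Agent.Sga3.H824.DsPt

open Groth.Agent.Sga3B.DSPts

variable {S : Scheme.{u}} {M : Type} [AddCommGroup M]

/-- The morphism of test objects attached to a ring homomorphism. -/
noncomputable abbrev res {B B' : Type u} [CommRing B] [CommRing B'] (ψ : B →+* B')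
    (s : Spec (CommRingCat.of B) ⟶ S) (s' : Spec (CommRingCat.of B') ⟶ S)
    (h : Spec.map (CommRingCat.ofHom ψ) ≫ s = s') : Over.mk s' ⟶ Over.mk s :=
  Over.homMk (Spec.map (CommRingCat.ofHom ψ)) h

/-- The point of `D_S(M)` with values in `B` attached to a character. -/
noncomputable def pt {B : Type u} [CommRing B] (s : Spec (CommRingCat.of B) ⟶ S)
    (χ : Multiplicative M →* B) : Over.mk s ⟶ Red.DS S M :=
  dsEquiv (Over.mk s) M
    (((Scheme.ΓSpecIso (CommRingCat.of B)).inv.hom : B →* Γ(Spec (CommRingCat.of B), ⊤)).comp χ)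

theorem pt_mul {B : Type u} [CommRing B] (s : Spec (CommRingCat.of B) ⟶ S)
    (χ χ' : Multiplicative M →* B) : pt s (χ * χ') = pt s χ * pt s χ' := by
  rw [pt, pt, pt, ← map_mul, MonoidHom.comp_mul]

theorem pt_one {B : Type u} [CommRing B] (s : Spec (CommRingCat.of B) ⟶ S) :
    pt s (1 : Multiplicative M →* B) = 1 := by
  have h : (((Scheme.ΓSpecIso (CommRingCat.of B)).inv.hom : B →* Γ(Spec (CommRingCat.of B), ⊤)).comp
      (1 : Multiplicative M →* B)) = 1 := MonoidHom.comp_one _
  rw [pt, h]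
  exact map_one (dsEquiv (Over.mk s) M)

theorem pt_pow {B : Type u} [CommRing B] (s : Spec (CommRingCat.of B) ⟶ S)
    (χ : Multiplicative M →* B) (n : ℕ) : pt s (χ ^ n) = pt s χ ^ n := by
  induction n with
  | zero => rw [pow_zero, pow_zero, pt_one]
  | succ n ih => rw [pow_succ, pow_succ, pt_mul, ih]

theorem pt_injective {B : Type u} [CommRing B] (s : Spec (CommRingCat.of B) ⟶ S) :
    Function.Injective (pt (M := M) s) := by
  intro χ χ' h
  have h1 := (dsEquiv (Over.mk s) M).injective h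
  ext m
  have h2 := DFunLike.congr_fun h1 m
  have h3 : Function.Injective (Scheme.ΓSpecIso (CommRingCat.of B)).inv.hom :=
    (ConcreteCategory.bijective_of_isIso (Scheme.ΓSpecIso (CommRingCat.of B)).inv).1
  exact h3 h2

theorem pt_surjective {B : Type u} [CommRing B] (s : Spec (CommRingCat.of B) ⟶ S)
    (x : Over.mk s ⟶ Red.DS S M) : ∃ χ : Multiplicative M →* B, pt s χ = x := by
  refine ⟨((Scheme.ΓSpecIso (CommRingCat.of B)).hom.hom : Γ(Spec (CommRingCat.of B), ⊤) →* B).comp
    (dsChar x), ?_⟩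
  rw [pt, ← MonoidHom.comp_assoc]
  have : (((Scheme.ΓSpecIso (CommRingCat.of B)).inv.hom : B →* Γ(Spec (CommRingCat.of B), ⊤)).comp
      ((Scheme.ΓSpecIso (CommRingCat.of B)).hom.hom : Γ(Spec (CommRingCat.of B), ⊤) →* B)) =
      MonoidHom.id _ := by
    ext a
    exact congr($((Scheme.ΓSpecIso (CommRingCat.of B)).hom_inv_id) a)
  rw [this, MonoidHom.id_comp, dsEquiv_dsChar]

theorem res_pt {B B' : Type u} [CommRing B] [CommRing B'] (ψ : B →+* B')
    (s : Spec (CommRingCat.of B) ⟶ S) (s' : Spec (CommRingCat.of B') ⟶ S)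
    (h : Spec.map (CommRingCat.ofHom ψ) ≫ s = s') (χ : Multiplicative M →* B) :
    res ψ s s' h ≫ pt s χ = pt s' ((ψ : B →* B').comp χ) := by
  rw [pt, pt, dsEquiv_naturality]
  congr 1
  ext m
  exact congr($(Scheme.ΓSpecIso_inv_naturality (CommRingCat.ofHom ψ)) (χ m)).symm

end Groth.Agent.Sga3.H824.DsPt
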