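import Groth.Agent.Sga3.H824.ImmVal
import Groth.Agent.CycB.ImageInt
import Groth.Agent.Ega3B.NormalBirational

/-!
# Monomorphisms to normal integral schemes

A monomorphism of finite type to a normal integral scheme whose image contains the generic point is an open
immersion on the closure of the generic point.
-/

set_option autoImplicit false

universe u

open CategoryTheory AlgebraicGeometry Limits

namespace Groth.Agent.Sga3.H824.NormMono

theorem exists_open {X Y : Scheme.{u}} [IsIntegral Y]
    (hY : ∀ y : Y, IsIntegrallyClosed (Y.presheaf.stalk y)) (f : X ⟶ Y) [Mono f] [QuasiCompact f]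
    [LocallyOfFiniteType f] (x : X) (hx : f x = genericPoint Y) :
    ∃ (V : Scheme.{u}) (i : V ⟶ X), IsClosedImmersion i ∧ IsOpenImmersion (i ≫ f) ∧
      Set.range i = closure {x} := by
  generalize hξ : genericPoint Y = ξ at hx
  let y : Spec (Y.residueField ξ) ⟶ Y := Y.fromSpecResidueField ξ
  have hy : ∀ s, y s = ξ := fun s ↦ Scheme.fromSpecResidueField_apply _ _
  let s₀ : Spec (Y.residueField ξ) := IsLocalRing.closedPoint (Y.residueField ξ)
  obtain ⟨l, hl⟩ := ImmVal.exists_lift_of_mem_range f (k := Y.residueField ξ) y s₀
    ⟨x, by rw [hx, hy]⟩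
  have hlx : ∀ s, l s = x := by
    intro s
    apply f.injective
    rw [hx]
    exact congr($hl s).trans (hy s)
  have hlq : QuasiCompact l := by
    have : QuasiCompact (l ≫ f) := by
      refine ⟨fun U _ _ ↦ (Set.toFinite _).isCompact⟩
    exact QuasiCompact.of_comp l f
  have hint : IsIntegral l.image := CycB.ImageInt.isIntegral_image l
  have hgen : genericPoint l.image = l.toImage s₀ := by
    rw [← CycB.ImageInt.toImage_genericPoint l]
    congr 1
    exact Subsingleton.elim _ _
  let g : l.image ⟶ Y := l.imageι ≫ f
  have hcomp : l.toImage ≫ g = y := by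
    simp only [g]
    rw [← Category.assoc, Scheme.Hom.toImage_imageι, hl]
  have hg1 : Mono g := mono_comp _ _
  have hg' : g (l.toImage s₀) = genericPoint Y := by
    rw [hξ]
    exact congr($hcomp s₀).trans (hy s₀)
  have hg : g (genericPoint l.image) = genericPoint Y := by
    rw [hgen, hg']
  have hbir : IsIso (g.stalkMap (genericPoint l.image)) := by
    rw [ConcreteCategory.isIso_iff_bijective]
    have h1 : Function.Injective (l.toImage.stalkMap s₀) := by
      have : IsField (l.image.presheaf.stalk (l.toImage s₀)) := by
        rw [← hgen]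
        exact Field.toIsField l.image.functionField
      let _ := this.toField
      exact RingHom.injective (l.toImage.stalkMap s₀).hom
    have h2 : Function.Surjective ((l.toImage ≫ g).stalkMap s₀) := by
      rw [hcomp]
      exact y.stalkMap_surjective s₀
    rw [Scheme.Hom.stalkMap_comp] at h2
    have h3 : Function.Injective (g.stalkMap (l.toImage s₀)) := by
      have : IsField (Y.presheaf.stalk (g (l.toImage s₀))) := by
        rw [hg']
        exact Field.toIsField Y.functionField
      let _ := this.toField
      exact RingHom.injective (g.stalkMap (l.toImage s₀)).hom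
    have h4 : Function.Surjective (g.stalkMap (l.toImage s₀)) := by
      intro a
      obtain ⟨b, hb⟩ := h2 (l.toImage.stalkMap s₀ a)
      exact ⟨b, h1 hb⟩
    rw [hgen]
    exact ⟨h3, h4⟩
  have hsep : IsSeparated g := inferInstance
  have hlft : LocallyOfFiniteType g := inferInstance
  have hlqf : LocallyQuasiFinite g := inferInstance
  have hqc : QuasiCompact g := inferInstance
  refine ⟨l.image, l.imageι, inferInstance,
    Ega3B.NormalBirational.isOpenImmersion_of_birational hY g hg hbir, ?_⟩
  rw [Scheme.IdealSheafData.range_subschemeι, Scheme.Hom.support_ker]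
  congr 1
  ext z
  constructor
  · rintro ⟨s, rfl⟩
    exact hlx s
  · rintro rfl
    exact ⟨s₀, hlx s₀⟩

end Groth.Agent.Sga3.H824.NormMono
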