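import Groth.Agent.Sga3.H824.TorCore
import Groth.Agent.Sga3.H824.AxiomA
import Groth.Agent.Sga3.H832.Asm4144

/-!
# The properties (A) and (T) of `H832.Asm4144`
-/

set_option autoImplicit false

universe u

open CategoryTheory MonoidalCategory CartesianMonoidalCategory MonObj GrpObj AlgebraicGeometry Limits

namespace Groth.Agent.Sga3.H824.Props

open Groth.Agent.Sga3.H832

theorem tProp : Asm4144.TProp.{u} := by
  intro R K _ _ _ _ _ _ _ H T _ _ r hT v _ _ t h ht hc
  exact TorCore.exists_lift hT v t h ht hc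

/-- Split tori are tori. -/
theorem isTorus_of_isSplitTorusWith {S : Scheme.{u}} {r : ℕ} {T : Over S} [GrpObj T]
    (h : Red.IsSplitTorusWith (Fin r → ℤ) T) : Red.IsTorus T :=
  ⟨S, 𝟙 S, inferInstance, inferInstance, fun V hV => ⟨V, hV.isCompact, by simp⟩, fun _ =>
    ⟨⊤, trivial, r, Sga3B.TorusAlgClosed.isSplitTorusWith_bc _ h⟩⟩

theorem aProp : Asm4144.AProp.{u} := by
  intro R K _ _ _ _ _ _ _ G H T _ _ _ r hT u _ _ _ _ φ hφ hψ
  exact AxiomA.hA (isTorus_of_isSplitTorusWith hT) u φ hφ hψ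

end Groth.Agent.Sga3.H824.Props
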