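import Mathlib.Algebra.MonoidAlgebra.Basic
import Mathlib.Algebra.MonoidAlgebra.NoZeroDivisors
import Mathlib.RingTheory.Valuation.ValuationRing

/-!
# Algebra for the torus lemma

`K` a field with a valuation `v`, `Γ` a group with unique products, `c : Γ →* Kˣ` a character, `σ_N` the
automorphism `χ ↦ c(χ)^N χ` of `K[Γ]`.  If `F = P/Q` is such that `σ_N(F) ≡ γ` modulo the maximal ideal of the
Gauss valuation ring for all `N`, then `v(c γ) = 1`; if moreover `v (c χ) = 1` for all `χ` then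
`v (c γ - 1) < 1`.
-/

set_option autoImplicit false

open Finsupp

namespace Groth.Agent.Sga3.H824.TorAlg

variable {K Γ₀ Γ : Type*} [Field K] [LinearOrderedCommGroupWithZero Γ₀] (v : Valuation K Γ₀)
  [CommGroup Γ]

/-- The coefficients of `A * B` are small if those of `A` are small and those of `B` are integral. -/
theorem coeff_mul_lt_one {A B : MonoidAlgebra K Γ} (hA : ∀ m, v (A.coeff m) < 1)
    (hB : ∀ m, v (B.coeff m) ≤ 1) (m : Γ) : v ((A * B).coeff m) < 1 := by
  classical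
  rw [MonoidAlgebra.coeff_mul, Finsupp.sum]
  refine Valuation.map_sum_lt v one_ne_zero fun i _ ↦ ?_
  rw [Finsupp.sum]
  refine Valuation.map_sum_lt v one_ne_zero fun j _ ↦ ?_
  split_ifs
  · rw [map_mul]
    exact mul_lt_one_of_nonneg_of_lt_one_left zero_le (hA i) (hB j)
  · simp

/-- Gauss lemma: if `B` is primitive and `A * B` is small then `A` is small. -/
theorem lt_one_of_mul [UniqueProds Γ] {A B : MonoidAlgebra K Γ} (hB : ∀ m, v (B.coeff m) ≤ 1)
    (hB' : ∃ m, v (B.coeff m) = 1) (hAB : ∀ m, v ((A * B).coeff m) < 1) :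
    ∀ m, v (A.coeff m) < 1 := by
  classical
  by_contra hcon
  push Not at hcon
  obtain ⟨m₀, hm₀⟩ := hcon
  have hm₀' : m₀ ∈ A.coeff.support := by
    rw [Finsupp.mem_support_iff]
    intro h
    rw [h, map_zero] at hm₀
    exact absurd hm₀ (not_le.mpr zero_lt_one)
  obtain ⟨a, ha, hamax⟩ := Finset.exists_max_image A.coeff.support (fun m ↦ v (A.coeff m)) ⟨m₀, hm₀'⟩
  have ha1 : 1 ≤ v (A.coeff a) := hm₀.trans (hamax m₀ hm₀')
  let SA := A.coeff.support.filter (fun m ↦ v (A.coeff m) = v (A.coeff a))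
  let SB := B.coeff.support.filter (fun m ↦ v (B.coeff m) = 1)
  have hSA : SA.Nonempty := ⟨a, by simp only [SA, Finset.mem_filter]; exact ⟨ha, trivial⟩⟩
  have hSB : SB.Nonempty := by
    obtain ⟨m, hm⟩ := hB'
    refine ⟨m, ?_⟩
    simp only [SB, Finset.mem_filter, Finsupp.mem_support_iff]
    refine ⟨fun h ↦ ?_, hm⟩
    rw [h, map_zero] at hm
    exact zero_ne_one hm
  obtain ⟨x, hx, y, hy, hxy⟩ := UniqueProds.uniqueMul_of_nonempty hSA hSB
  simp only [SA, SB, Finset.mem_filter] at hx hy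
  have hAle : ∀ m, v (A.coeff m) ≤ v (A.coeff a) := fun m ↦ by
    by_cases h : m ∈ A.coeff.support
    · exact hamax m h
    · rw [Finsupp.notMem_support_iff.mp h, map_zero]; exact zero_le
  -- compute the coefficient at x * y
  have h1 : (A * B).coeff (x * y) = A.coeff x * B.coeff y +
      ∑ p ∈ (A.coeff.support ×ˢ B.coeff.support).erase (x, y),
        (if p.1 * p.2 = x * y then A.coeff p.1 * B.coeff p.2 else 0) := by
    rw [MonoidAlgebra.coeff_mul, Finsupp.sum]
    simp_rw [Finsupp.sum]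
    rw [← Finset.sum_product', ← Finset.add_sum_erase _ _
      (Finset.mem_product.mpr ⟨hx.1, hy.1⟩ : (x, y) ∈ A.coeff.support ×ˢ B.coeff.support)]
    simp
  have h2 : v (∑ p ∈ (A.coeff.support ×ˢ B.coeff.support).erase (x, y),
        (if p.1 * p.2 = x * y then A.coeff p.1 * B.coeff p.2 else 0)) < v (A.coeff a) := by
    refine Valuation.map_sum_lt v (fun h ↦ ?_) fun p hp ↦ ?_
    · rw [h] at ha1; exact absurd ha1 (not_le.mpr zero_lt_one)
    · split_ifs with hpe
      · rw [map_mul]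
        by_cases hp1 : p.1 ∈ SA
        · by_cases hp2 : p.2 ∈ SB
          · exact absurd (Prod.ext_iff.mpr (hxy hp1 hp2 hpe)) (Finset.ne_of_mem_erase hp)
          · have h3 : v (B.coeff p.2) < 1 := by
              refine lt_of_le_of_ne (hB _) fun h ↦ hp2 ?_
              simp only [SB, Finset.mem_filter]
              exact ⟨(Finset.mem_product.mp (Finset.mem_of_mem_erase hp)).2, h⟩
            calc v (A.coeff p.1) * v (B.coeff p.2) ≤ v (A.coeff a) * v (B.coeff p.2) := by
                  gcongr; exact hAle _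
              _ < v (A.coeff a) * 1 := by
                  exact mul_lt_mul_of_pos_left h3 (lt_of_lt_of_le zero_lt_one ha1)
              _ = v (A.coeff a) := mul_one _
        · have h3 : v (A.coeff p.1) < v (A.coeff a) := by
            refine lt_of_le_of_ne (hAle _) fun h ↦ hp1 ?_
            simp only [SA, Finset.mem_filter]
            exact ⟨(Finset.mem_product.mp (Finset.mem_of_mem_erase hp)).1, h⟩
          calc v (A.coeff p.1) * v (B.coeff p.2) ≤ v (A.coeff p.1) * 1 := by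
                gcongr; exact hB _
            _ = v (A.coeff p.1) := mul_one _
            _ < v (A.coeff a) := h3
      · rw [map_zero]; exact lt_of_lt_of_le zero_lt_one ha1
  have h4 : v (A.coeff x * B.coeff y) = v (A.coeff a) := by
    rw [map_mul, hx.2, hy.2, mul_one]
  have h5 : v ((A * B).coeff (x * y)) = v (A.coeff a) := by
    rw [h1, Valuation.map_add_eq_of_lt_left v (by rw [h4]; exact h2), h4]
  exact absurd (hAB (x * y)) (by rw [h5]; exact not_lt.mpr ha1)

/-- The automorphism `χ ↦ c(χ)^N χ` in terms of coefficients. -/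
structure IsTwist (c : Γ →* K) (N : ℕ) (P P' : MonoidAlgebra K Γ) : Prop where
  coeff : ∀ m, P'.coeff m = c m ^ N * P.coeff m

/-- The relation at level `N`: `P'/Q' = A/B` with `B` primitive and `A ≡ γ B`. -/
structure Rel (γ : Γ) (P' Q' : MonoidAlgebra K Γ) : Prop where
  ex : ∃ A B : MonoidAlgebra K Γ, (∀ m, v (B.coeff m) ≤ 1) ∧ (∃ m, v (B.coeff m) = 1) ∧
    (∀ m, v ((A - MonoidAlgebra.single γ 1 * B).coeff m) < 1) ∧ P' * B = A * Q'

theorem rel_coeff [UniqueProds Γ] {γ : Γ} {P' Q' : MonoidAlgebra K Γ} (h : Rel v γ P' Q') (m : Γ)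
    (hm : Q'.coeff m ≠ 0) (hmax : ∀ m', v (Q'.coeff m') ≤ v (Q'.coeff m)) :
    v (P'.coeff (γ * m) / Q'.coeff m - 1) < 1 := by
  obtain ⟨A, B, hB, hB', hA, hAB⟩ := h.ex
  let a := Q'.coeff m
  let D : MonoidAlgebra K Γ := a⁻¹ • (P' - MonoidAlgebra.single γ 1 * Q')
  have hD : D * B = (A - MonoidAlgebra.single γ 1 * B) * (a⁻¹ • Q') := by
    simp only [D]
    rw [smul_mul_assoc, mul_smul_comm, sub_mul, sub_mul, hAB, mul_assoc, mul_assoc, mul_comm Q' B]
  have h1 : ∀ m', v (D.coeff m') < 1 := by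
    refine lt_one_of_mul v hB hB' fun m' ↦ ?_
    rw [hD]
    refine coeff_mul_lt_one v hA (fun n ↦ ?_) m'
    rw [MonoidAlgebra.coeff_smul_apply, smul_eq_mul, map_mul, map_inv₀]
    have : v a ≠ 0 := (Valuation.ne_zero_iff v).mpr hm
    rw [inv_mul_le_iff₀ (zero_lt_iff.mpr this), mul_one]
    exact hmax n
  have h2 := h1 (γ * m)
  have h3 : D.coeff (γ * m) = P'.coeff (γ * m) / Q'.coeff m - 1 := by
    simp only [D, MonoidAlgebra.coeff_smul_apply, MonoidAlgebra.coeff_sub, Finsupp.coe_sub, Pi.sub_apply,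
      smul_eq_mul]
    rw [MonoidAlgebra.coeff_single_mul_eq_mul_coeff m (by simp), one_mul, mul_sub, div_eq_inv_mul]
    congr 1
    exact inv_mul_cancel₀ hm
  rwa [h3] at h2

theorem exists_max {Q : MonoidAlgebra K Γ} (hQ : Q ≠ 0) :
    ∃ m ∈ Q.coeff.support, ∀ m', v (Q.coeff m') ≤ v (Q.coeff m) := by
  have h : Q.coeff.support.Nonempty := by
    rw [Finsupp.support_nonempty_iff]
    exact fun h ↦ hQ (MonoidAlgebra.coeff_eq_zero.mp h)
  obtain ⟨a, ha, hamax⟩ := Finset.exists_max_image Q.coeff.support (fun m ↦ v (Q.coeff m)) h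
  refine ⟨a, ha, fun m ↦ ?_⟩
  by_cases h : m ∈ Q.coeff.support
  · exact hamax m h
  · rw [Finsupp.notMem_support_iff.mp h, map_zero]; exact zero_le

theorem val_eq_one_of_sub {x : K} (h : v (x - 1) < 1) : v x = 1 := by
  have h1 : x = 1 + (x - 1) := by ring
  rw [h1, Valuation.map_one_add_of_lt v h]

variable {v}

/-- First stage: the character has unit values. -/
theorem stage1 [UniqueProds Γ] (c : Γ →* K) (γ : Γ) (P Q : MonoidAlgebra K Γ) (hQ : Q ≠ 0)
    (H : ∀ N : ℕ, ∃ P' Q' : MonoidAlgebra K Γ, IsTwist c N P P' ∧ IsTwist c N Q Q' ∧ Rel v γ P' Q') :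
    v (c γ) = 1 := by
  have hc : ∀ m, c m ≠ 0 := fun m h ↦ by
    have : c m * c m⁻¹ = 1 := by rw [← map_mul, mul_inv_cancel, map_one]
    rw [h, zero_mul] at this
    exact zero_ne_one this
  -- for every `N` there is `m ∈ supp Q` with `v (c γ ^ N * (P (γ m) / Q m)) = 1`
  have key : ∀ N : ℕ, ∃ m : Q.coeff.support, v (c γ) ^ N * v (P.coeff (γ * m) / Q.coeff m) = 1 := by
    intro N
    obtain ⟨P', Q', hP, hQ', hrel⟩ := H N
    have hQ'0 : Q' ≠ 0 := by
      intro h
      apply hQ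
      ext m
      have h1 := hQ'.coeff m
      rw [h] at h1
      simp only [MonoidAlgebra.coeff_zero, Finsupp.coe_zero, Pi.zero_apply] at h1 ⊢
      exact (mul_eq_zero.mp h1.symm).resolve_left (pow_ne_zero _ (hc m))
    obtain ⟨m, hm, hmax⟩ := exists_max v hQ'0
    have hm' : Q'.coeff m ≠ 0 := Finsupp.mem_support_iff.mp hm
    have hmQ : Q.coeff m ≠ 0 := by
      intro h
      rw [hQ'.coeff, h, mul_zero] at hm'
      exact hm' rfl
    refine ⟨⟨m, Finsupp.mem_support_iff.mpr hmQ⟩, ?_⟩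
    have h1 := val_eq_one_of_sub v (rel_coeff v hrel m hm' hmax)
    rw [hP.coeff, hQ'.coeff, map_mul] at h1
    rw [← map_pow, ← map_mul, ← h1]
    congr 1
    have := hc m
    rw [mul_pow]
    field_simp
  choose m hm using key
  obtain ⟨N, N', hne, heq⟩ := Finite.exists_ne_map_eq_of_infinite m
  wlog hlt : N < N' generalizing N N'
  · exact this N' N hne.symm heq.symm (lt_of_le_of_ne (not_lt.mp hlt) hne.symm)
  have h1 := hm N
  have h2 := hm N'
  rw [← heq] at h2
  have h3 : v (P.coeff (γ * (m N : Γ)) / Q.coeff (m N : Γ)) ≠ 0 := fun h ↦ by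
    rw [h, mul_zero] at h1; exact zero_ne_one h1
  have h4 : v (c γ) ^ N = v (c γ) ^ N' := mul_right_cancel₀ h3 (h1.trans h2.symm)
  have h5 : v (c γ) ≠ 0 := (Valuation.ne_zero_iff v).mpr (hc γ)
  have h6 : v (c γ) ^ (N' - N) = 1 := by
    have : v (c γ) ^ N * v (c γ) ^ (N' - N) = v (c γ) ^ N * 1 := by
      rw [← pow_add, Nat.add_sub_cancel' hlt.le, h4, mul_one]
    exact mul_left_cancel₀ (pow_ne_zero _ h5) this
  exact (pow_eq_one_iff_of_nonneg zero_le (Nat.sub_ne_zero_of_lt hlt)).mp h6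

/-- Second stage: if the character has unit values it is residually trivial. -/
theorem stage2 [UniqueProds Γ] (c : Γ →* K) (hc : ∀ m, v (c m) = 1) (γ : Γ)
    (P Q : MonoidAlgebra K Γ) (hQ : Q ≠ 0)
    (H : ∀ N : ℕ, ∃ P' Q' : MonoidAlgebra K Γ, IsTwist c N P P' ∧ IsTwist c N Q Q' ∧ Rel v γ P' Q') :
    v (c γ - 1) < 1 := by
  obtain ⟨m, hm, hmax⟩ := exists_max v hQ
  have hm' : Q.coeff m ≠ 0 := Finsupp.mem_support_iff.mp hm
  have hc0 : ∀ m, c m ≠ 0 := fun m h ↦ by
    have := hc m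
    rw [h, map_zero] at this
    exact zero_ne_one this
  have key : ∀ N : ℕ, v (c γ ^ N * (P.coeff (γ * m) / Q.coeff m) - 1) < 1 := by
    intro N
    obtain ⟨P', Q', hP, hQ', hrel⟩ := H N
    have hv : ∀ n, v (Q'.coeff n) = v (Q.coeff n) := fun n ↦ by
      rw [hQ'.coeff, map_mul, map_pow, hc, one_pow, one_mul]
    have h1 := rel_coeff v hrel m (by
      rw [hQ'.coeff]; exact mul_ne_zero (pow_ne_zero _ (hc0 m)) hm')
      (fun n ↦ by rw [hv, hv]; exact hmax n)
    rw [hP.coeff, hQ'.coeff, map_mul] at h1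
    convert h1 using 3
    have := hc0 m
    rw [mul_pow]
    field_simp
  have h0 := key 0
  have h1 := key 1
  rw [pow_zero, one_mul] at h0
  rw [pow_one] at h1
  set r := P.coeff (γ * m) / Q.coeff m
  have h2 : c γ - 1 = (c γ * r - 1) - c γ * (r - 1) := by ring
  rw [h2]
  refine lt_of_le_of_lt (Valuation.map_sub v _ _) (max_lt h1 ?_)
  rw [map_mul, hc, one_mul]
  exact h0

end Groth.Agent.Sga3.H824.TorAlg
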