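import Groth.Agent.Sga3.H824.TorAlg
import Mathlib.Algebra.MonoidAlgebra.MapDomain
import Mathlib.RingTheory.Valuation.Integers
import Mathlib.RingTheory.Localization.AtPrime.Basic
import Mathlib.RingTheory.Localization.FractionRing
import Mathlib.RingTheory.LocalRing.ResidueField.Basic

/-!
# The generic point of the closed fibre of a split torus over a valuation ring

`𝔮 = ker (R[Γ] → k[Γ])`, `B = R[Γ]_𝔮`, `L = Frac K[Γ]`; the twists `σ_N` on `L`; the algebraic statement
used in the torus lemma.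
-/

set_option autoImplicit false

open Finsupp IsLocalRing

namespace Groth.Agent.Sga3.H824.TorBridge

universe u v

variable (R K : Type u) [CommRing R] [IsDomain R] [ValuationRing R] [Field K] [Algebra R K]
  [IsFractionRing R K] (Γ : Type) [CommGroup Γ]

theorem integers : (ValuationRing.valuation R K).Integers R where
  hom_inj := IsFractionRing.injective R K
  map_le_one x := (ValuationRing.mem_integer_iff R K _).mpr ⟨x, rfl⟩
  exists_of_le_one {x} h := (ValuationRing.mem_integer_iff R K x).mp h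

theorem val_eq_one_iff (x : R) : ValuationRing.valuation R K (algebraMap R K x) = 1 ↔ IsUnit x :=
  ⟨(integers R K).isUnit_of_one', (integers R K).one_of_isUnit⟩

theorem val_lt_one_iff (x : R) :
    ValuationRing.valuation R K (algebraMap R K x) < 1 ↔ x ∈ maximalIdeal R := by
  rw [mem_maximalIdeal, mem_nonunits_iff, ← val_eq_one_iff R K]
  exact ⟨fun h ↦ h.ne, fun h ↦ lt_of_le_of_ne ((integers R K).map_le_one x) h⟩

/-- The prime ideal of the generic point of the closed fibre. -/
noncomputable def qIdeal : Ideal (MonoidAlgebra R Γ) := RingHom.ker (MonoidAlgebra.mapRingHom Γ (residue R))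

theorem mem_qIdeal {P : MonoidAlgebra R Γ} : P ∈ qIdeal R Γ ↔ ∀ m, P.coeff m ∈ maximalIdeal R := by
  rw [qIdeal, RingHom.mem_ker]
  constructor
  · intro h m
    rw [← residue_eq_zero_iff, ← MonoidAlgebra.coeff_mapRingHom, h]
    simp
  · intro h
    ext m
    rw [MonoidAlgebra.coeff_mapRingHom]
    simpa using (residue_eq_zero_iff _).mpr (h m)

instance [UniqueProds Γ] : (qIdeal R Γ).IsPrime := RingHom.ker_isPrime _

variable {Γ} in
/-- The twist `χ ↦ c(χ)^N χ` of `K[Γ]`. -/
noncomputable def twist {K : Type u} [Field K] (c : Γ →* K) (N : ℕ) : MonoidAlgebra K Γ →+* MonoidAlgebra K Γ :=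
  (MonoidAlgebra.lift K (MonoidAlgebra K Γ) Γ
    { toFun := fun γ ↦ MonoidAlgebra.single γ (c γ ^ N)
      map_one' := by simp [MonoidAlgebra.one_def]
      map_mul' := fun a b ↦ by simp [MonoidAlgebra.single_mul_single, mul_pow] } :
    MonoidAlgebra K Γ →ₐ[K] MonoidAlgebra K Γ).toRingHom

variable {Γ} in
theorem twist_single {K : Type u} [Field K] (c : Γ →* K) (N : ℕ) (γ : Γ) (a : K) :
    twist c N (MonoidAlgebra.single γ a) = MonoidAlgebra.single γ (c γ ^ N * a) := by
  simp only [twist, AlgHom.toRingHom_eq_coe, RingHom.coe_coe, MonoidAlgebra.lift_single,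
    MonoidHom.coe_mk, OneHom.coe_mk, MonoidAlgebra.smul_single, smul_eq_mul, mul_comm]

variable {Γ} in
theorem isTwist {K : Type u} [Field K] (c : Γ →* K) (N : ℕ) (P : MonoidAlgebra K Γ) :
    TorAlg.IsTwist c N P (twist c N P) where
  coeff m := by
    classical
    induction P using MonoidAlgebra.induction_linear with
    | zero => simp
    | add f g hf hg =>
      rw [map_add, MonoidAlgebra.coeff_add, MonoidAlgebra.coeff_add, Finsupp.add_apply,
        Finsupp.add_apply, hf, hg, mul_add]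
    | single a b =>
      rw [twist_single, MonoidAlgebra.coeff_single, MonoidAlgebra.coeff_single, Finsupp.single_apply,
        Finsupp.single_apply]
      split_ifs with h
      · rw [h]
      · simp

variable {Γ} in
theorem ne_zero_of_char {K : Type u} [Field K] (c : Γ →* K) (m : Γ) : c m ≠ 0 := fun h ↦ by
  have : c m * c m⁻¹ = 1 := by rw [← map_mul, mul_inv_cancel, map_one]
  rw [h, zero_mul] at this
  exact zero_ne_one this

variable {Γ} in
theorem twist_injective {K : Type u} [Field K] (c : Γ →* K) (N : ℕ) :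
    Function.Injective (twist c N : MonoidAlgebra K Γ →+* MonoidAlgebra K Γ) := by
  rw [injective_iff_map_eq_zero]
  intro P hP
  ext m
  have h := (isTwist c N P).coeff m
  rw [hP] at h
  simp only [MonoidAlgebra.coeff_zero, Finsupp.coe_zero, Pi.zero_apply] at h ⊢
  exact (mul_eq_zero.mp h.symm).resolve_left (pow_ne_zero _ (ne_zero_of_char c m))

section

variable [UniqueProds Γ]

/-- the local ring of the generic point of the closed fibre -/
abbrev B : Type u := Localization.AtPrime (qIdeal R Γ)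

/-- the function field -/
abbrev L : Type u := FractionRing (MonoidAlgebra K Γ)

/-- `R[Γ] → L` -/
noncomputable def toL : MonoidAlgebra R Γ →+* L K Γ :=
  (algebraMap (MonoidAlgebra K Γ) (L K Γ)).comp (MonoidAlgebra.mapRingHom Γ (algebraMap R K))

omit [IsDomain R] [ValuationRing R] [UniqueProds Γ] in
theorem toL_injective : Function.Injective (toL R K Γ) := by
  rw [toL, RingHom.coe_comp]
  refine (IsFractionRing.injective (MonoidAlgebra K Γ) (L K Γ)).comp ?_
  exact MonoidAlgebra.map_injective _ (IsFractionRing.injective R K)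

/-- `B → L` -/
noncomputable def ι : B R Γ →+* L K Γ :=
  IsLocalization.lift (M := (qIdeal R Γ).primeCompl) (g := toL R K Γ) fun y ↦ by
    refine IsUnit.mk0 _ fun h ↦ y.2 ?_
    have : (y : MonoidAlgebra R Γ) = 0 := toL_injective R K Γ (by rw [h, map_zero])
    rw [this]
    exact Ideal.zero_mem _

theorem ι_algebraMap (x : MonoidAlgebra R Γ) :
    ι R K Γ (algebraMap _ (B R Γ) x) = toL R K Γ x :=
  IsLocalization.lift_eq _ _

theorem ι_mk' (x : MonoidAlgebra R Γ) (y : (qIdeal R Γ).primeCompl) :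
    ι R K Γ (IsLocalization.mk' (B R Γ) x y) * toL R K Γ y = toL R K Γ x := by
  rw [← ι_algebraMap, ← ι_algebraMap, ← map_mul, IsLocalization.mk'_spec]

variable {Γ} {K} in
/-- the twist on the function field -/
noncomputable def σ (c : Γ →* K) (N : ℕ) : L K Γ →+* L K Γ :=
  IsFractionRing.map (A := MonoidAlgebra K Γ) (B := MonoidAlgebra K Γ) (K := L K Γ) (L := L K Γ)
    (j := twist c N) (twist_injective c N)

variable {Γ} {K} in
theorem σ_algebraMap (c : Γ →* K) (N : ℕ) (x : MonoidAlgebra K Γ) :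
    σ c N (algebraMap _ _ x) = algebraMap _ _ (twist c N x) := by
  rw [σ, IsFractionRing.map]
  exact IsLocalization.map_eq _ _

omit [UniqueProds Γ] in
theorem coeff_mapRingHom_le (P : MonoidAlgebra R Γ) (m : Γ) :
    ValuationRing.valuation R K ((MonoidAlgebra.mapRingHom Γ (algebraMap R K) P).coeff m) ≤ 1 := by
  rw [MonoidAlgebra.coeff_mapRingHom]
  exact (integers R K).map_le_one _

variable {Γ} {R} {K} in
theorem exists_rel (c : Γ →* K) (γ : Γ) (F : ℕ → B R Γ)
    (hres : ∀ N, F N - algebraMap _ _ (MonoidAlgebra.single γ (1 : R)) ∈ maximalIdeal (B R Γ))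
    (htw : ∀ N, ι R K Γ (F N) = σ c N (ι R K Γ (F 0))) :
    ∃ P Q : MonoidAlgebra K Γ, Q ≠ 0 ∧ ∀ N : ℕ, ∃ P' Q' : MonoidAlgebra K Γ,
      TorAlg.IsTwist c N P P' ∧ TorAlg.IsTwist c N Q Q' ∧
      TorAlg.Rel (ValuationRing.valuation R K) γ P' Q' := by
  obtain ⟨P₀, Q₀, h₀⟩ := IsLocalization.exists_mk'_eq (qIdeal R Γ).primeCompl (F 0)
  let j := MonoidAlgebra.mapRingHom Γ (algebraMap R K)
  have hj : Function.Injective j := MonoidAlgebra.map_injective _ (IsFractionRing.injective R K)
  have hQ₀ : j Q₀ ≠ 0 := fun h ↦ Q₀.2 (by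
    have : (Q₀ : MonoidAlgebra R Γ) = 0 := hj (by rw [h, map_zero])
    rw [this]; exact Ideal.zero_mem _)
  refine ⟨j P₀, j Q₀, hQ₀, fun N ↦ ⟨twist c N (j P₀), twist c N (j Q₀), isTwist c N _,
    isTwist c N _, ⟨?_⟩⟩⟩
  obtain ⟨A, D, hAD⟩ := IsLocalization.exists_mk'_eq (qIdeal R Γ).primeCompl (F N)
  refine ⟨j A, j D, coeff_mapRingHom_le R K Γ _, ?_, ?_, ?_⟩
  · have h1 : ¬ ∀ m, (D : MonoidAlgebra R Γ).coeff m ∈ maximalIdeal R := fun h ↦
      D.2 ((mem_qIdeal R Γ).mpr h)
    push Not at h1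
    obtain ⟨m, hm⟩ := h1
    refine ⟨m, ?_⟩
    simp only [j, MonoidAlgebra.coeff_mapRingHom]
    rw [val_eq_one_iff]
    simpa [mem_maximalIdeal] using hm
  · have h1 : A - MonoidAlgebra.single γ (1 : R) * (D : MonoidAlgebra R Γ) ∈ qIdeal R Γ := by
      have h2 := (maximalIdeal (B R Γ)).mul_mem_right (algebraMap _ (B R Γ) (D : MonoidAlgebra R Γ))
        (hres N)
      rw [← hAD, sub_mul, IsLocalization.mk'_spec, ← map_mul, ← map_sub] at h2
      exact (IsLocalization.AtPrime.to_map_mem_maximal_iff (B R Γ) (qIdeal R Γ) _).mp h2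
    intro m
    have h4 : j A - MonoidAlgebra.single γ 1 * j D =
        j (A - MonoidAlgebra.single γ (1 : R) * (D : MonoidAlgebra R Γ)) := by
      simp only [j, map_sub, map_mul, MonoidAlgebra.mapRingHom_single, map_one]
    rw [h4]
    simp only [j, MonoidAlgebra.coeff_mapRingHom]
    rw [val_lt_one_iff]
    exact (mem_qIdeal R Γ).mp h1 m
  · apply IsFractionRing.injective (MonoidAlgebra K Γ) (L K Γ)
    have h1 : ι R K Γ (F N) * algebraMap _ _ (j D) = algebraMap _ _ (j A) := by
      rw [← hAD]; exact ι_mk' R K Γ A D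
    have h2 : ι R K Γ (F 0) * algebraMap _ _ (j Q₀) = algebraMap _ _ (j P₀) := by
      rw [← h₀]; exact ι_mk' R K Γ P₀ Q₀
    have h3 : ι R K Γ (F N) * algebraMap _ _ (twist c N (j Q₀)) =
        algebraMap _ _ (twist c N (j P₀)) := by
      rw [← σ_algebraMap, ← σ_algebraMap, ← h2, htw N, map_mul]
    rw [map_mul, map_mul, ← h3, ← h1]
    ring

variable {Γ} {R} {K} in
/-- The algebraic core of the torus lemma. -/
theorem main (c : Γ →* K) (F : Γ → ℕ → B R Γ)
    (hres : ∀ γ N, F γ N - algebraMap _ _ (MonoidAlgebra.single γ (1 : R)) ∈ maximalIdeal (B R Γ))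
    (htw : ∀ γ N, ι R K Γ (F γ N) = σ c N (ι R K Γ (F γ 0))) :
    ∃ d : Γ →* R, (∀ γ, algebraMap R K (d γ) = c γ) ∧ ∀ γ, d γ - 1 ∈ maximalIdeal R := by
  have h1 : ∀ γ, ValuationRing.valuation R K (c γ) = 1 := fun γ ↦ by
    obtain ⟨P, Q, hQ, H⟩ := exists_rel c γ (F γ) (hres γ) (htw γ)
    exact TorAlg.stage1 c γ P Q hQ H
  have h2 : ∀ γ, ValuationRing.valuation R K (c γ - 1) < 1 := fun γ ↦ by
    obtain ⟨P, Q, hQ, H⟩ := exists_rel c γ (F γ) (hres γ) (htw γ)
    exact TorAlg.stage2 c h1 γ P Q hQ H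
  have h3 : ∀ γ, ∃ r : R, algebraMap R K r = c γ := fun γ ↦
    (integers R K).exists_of_le_one (h1 γ).le
  choose d hd using h3
  have hinj := IsFractionRing.injective R K
  refine ⟨{ toFun := d, map_one' := hinj (by rw [hd, map_one, map_one]),
            map_mul' := fun a b ↦ hinj (by rw [map_mul, hd, hd, hd, map_mul]) }, hd, fun γ ↦ ?_⟩
  change d γ - 1 ∈ maximalIdeal R
  rw [← val_lt_one_iff R K, map_sub, map_one, hd]
  exact h2 γ

end

end Groth.Agent.Sga3.H824.TorBridge
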