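import Groth.Agent.Sga3.H824.ImmVal
import Groth.Agent.Sga3.H824.TorBridge
import Groth.Agent.Sga3.H824.DsPt

/-!
# The torus lemma over valuation rings

`R` a valuation ring with fraction field `K` and residue field `k`, `T = D_S(M)` a split torus,
`u : T ⟶ H` a monomorphism of group schemes over `S` (no finiteness or separatedness), `r : Spec R ⟶ S`.
If `h ∈ H(R)` with `h_K ∈ T(K)` and `h_k ∈ T(k)` then `h ∈ T(R)`.
-/

set_option autoImplicit false

universe u

open CategoryTheory MonoidalCategory CartesianMonoidalCategory MonObj GrpObj AlgebraicGeometry Limits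
open IsLocalRing

namespace Groth.Agent.Sga3.H824.TorVal

open Groth.Agent.Sga3.H824.DsPt

/-- A morphism from the spectrum of a local ring factors through the local ring at the image of the
closed point. -/
theorem exists_stalk_factor {X : Scheme.{u}} {B : Type u} [CommRing B] [IsLocalRing B]
    (g : Spec (CommRingCat.of B) ⟶ X) (x : X) (hx : g (closedPoint B) = x) :
    ∃ ψ : X.presheaf.stalk x ⟶ CommRingCat.of B, IsLocalHom ψ.hom ∧
      Spec.map ψ ≫ X.fromSpecStalk x = g := by
  subst hx
  exact ⟨Scheme.stalkClosedPointTo g, inferInstance, Scheme.Spec_stalkClosedPointTo_fromSpecStalk g⟩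

theorem stalk_hom_ext {X : Scheme.{u}} {x : X} {B : CommRingCat.{u}}
    {ψ ψ' : X.presheaf.stalk x ⟶ B}
    (h : Spec.map ψ ≫ X.fromSpecStalk x = Spec.map ψ' ≫ X.fromSpecStalk x) : ψ = ψ' :=
  Spec.map_injective ((cancel_mono (X.fromSpecStalk x)).mp h)

variable {S : Scheme.{u}} {M : Type} [AddCommGroup M]

/-- Two `R`-points which agree at the generic point and have the same closed point are equal. -/
theorem eq_of_generic_of_closed {X : Scheme.{u}} {R : Type u} [CommRing R] [IsDomain R]
    [IsLocalRing R] (K : Type u) [Field K] [Algebra R K] [IsFractionRing R K]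
    (a b : Spec (CommRingCat.of R) ⟶ X)
    (hK : Spec.map (CommRingCat.ofHom (algebraMap R K)) ≫ a =
      Spec.map (CommRingCat.ofHom (algebraMap R K)) ≫ b)
    (hk : a (closedPoint R) = b (closedPoint R)) : a = b := by
  obtain ⟨ψ, -, hψ⟩ := exists_stalk_factor a _ rfl
  obtain ⟨ψ', -, hψ'⟩ := exists_stalk_factor b _ hk.symm
  have h1 : ψ ≫ CommRingCat.ofHom (algebraMap R K) = ψ' ≫ CommRingCat.ofHom (algebraMap R K) := by
    apply stalk_hom_ext
    rw [Spec.map_comp, Spec.map_comp, Category.assoc, Category.assoc, hψ, hψ', hK]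
  have h2 : ψ = ψ' := by
    ext z
    exact IsFractionRing.injective R K congr($h1 z)
  rw [← hψ, ← hψ', h2]

section

variable {R : Type u} [CommRing R] [IsDomain R] [ValuationRing R] {K : Type u} [Field K]
  [Algebra R K] [IsFractionRing R K] [UniqueProds (Multiplicative M)]

variable (M R) in
/-- `R → B` -/
noncomputable def φB : R →+* TorBridge.B R (Multiplicative M) :=
  (algebraMap (MonoidAlgebra R (Multiplicative M)) (TorBridge.B R (Multiplicative M))).comp
    MonoidAlgebra.singleOneRingHom

variable (M R) in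
/-- the tautological character with values in `B` -/
noncomputable def χB : Multiplicative M →* TorBridge.B R (Multiplicative M) :=
  (algebraMap (MonoidAlgebra R (Multiplicative M)) (TorBridge.B R (Multiplicative M)) : _ →* _).comp
    (MonoidAlgebra.of R (Multiplicative M))

theorem φB_apply (a : R) : φB M R a =
    algebraMap (MonoidAlgebra R (Multiplicative M)) (TorBridge.B R (Multiplicative M))
      (MonoidAlgebra.single 1 a) := rfl

theorem χB_apply (γ : Multiplicative M) : χB M R γ =
    algebraMap (MonoidAlgebra R (Multiplicative M)) (TorBridge.B R (Multiplicative M))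
      (MonoidAlgebra.single γ 1) := rfl

variable (M K) in
/-- `K → L` -/
noncomputable def κL : K →+* TorBridge.L K (Multiplicative M) :=
  (algebraMap (MonoidAlgebra K (Multiplicative M)) (TorBridge.L K (Multiplicative M))).comp
    MonoidAlgebra.singleOneRingHom

omit [UniqueProds (Multiplicative M)] in
theorem κL_apply (a : K) : κL M K a =
    algebraMap (MonoidAlgebra K (Multiplicative M)) (TorBridge.L K (Multiplicative M))
      (MonoidAlgebra.single 1 a) := rfl

theorem ι_comp_φB : (TorBridge.ι R K (Multiplicative M)).comp (φB M R) =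
    (κL M K).comp (algebraMap R K) := by
  ext a
  rw [RingHom.comp_apply, RingHom.comp_apply, φB_apply, κL_apply, TorBridge.ι_algebraMap,
    TorBridge.toL, RingHom.comp_apply, MonoidAlgebra.mapRingHom_single]

theorem ι_χB (γ : Multiplicative M) : TorBridge.ι R K (Multiplicative M) (χB M R γ) =
    algebraMap (MonoidAlgebra K (Multiplicative M)) (TorBridge.L K (Multiplicative M))
      (MonoidAlgebra.single γ 1) := by
  rw [χB_apply, TorBridge.ι_algebraMap, TorBridge.toL, RingHom.comp_apply,
    MonoidAlgebra.mapRingHom_single, map_one]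

theorem σ_κL (c : Multiplicative M →* K) (N : ℕ) (a : K) :
    TorBridge.σ c N (κL M K a) = κL M K a := by
  rw [κL_apply, TorBridge.σ_algebraMap, TorBridge.twist_single, map_one, one_pow,
    _root_.one_mul]

theorem σ_ι_χB (c : Multiplicative M →* K) (N : ℕ) (γ : Multiplicative M) :
    TorBridge.σ c N (TorBridge.ι R K (Multiplicative M) (χB M R γ)) =
      TorBridge.ι R K (Multiplicative M) (χB M R γ) * κL M K (c γ) ^ N := by
  rw [ι_χB, TorBridge.σ_algebraMap, TorBridge.twist_single, κL_apply,
    ← map_pow (algebraMap (MonoidAlgebra K (Multiplicative M)) (TorBridge.L K (Multiplicative M))),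
    ← map_mul, MonoidAlgebra.single_pow, MonoidAlgebra.single_mul_single, one_pow, _root_.mul_one,
    _root_.mul_one, _root_.one_mul]

instance isLocalHom_φB : IsLocalHom (φB M R) where
  map_nonunit a ha := by
    by_contra hna
    have h1 : MonoidAlgebra.single (1 : Multiplicative M) a ∈
        TorBridge.qIdeal R (Multiplicative M) := by
      classical
      rw [TorBridge.mem_qIdeal]
      intro m
      rw [MonoidAlgebra.coeff_single, Finsupp.single_apply]
      split_ifs
      · exact hna
      · exact Ideal.zero_mem _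
    have h2 : φB M R a ∈ maximalIdeal (TorBridge.B R (Multiplicative M)) :=
      (IsLocalization.AtPrime.to_map_mem_maximal_iff (TorBridge.B R (Multiplicative M))
        (TorBridge.qIdeal R (Multiplicative M)) _).mpr h1
    exact h2 ha

theorem res_comp {B B' B'' : Type u} [CommRing B] [CommRing B'] [CommRing B''] (ψ : B →+* B')
    (ψ' : B' →+* B'') (s : Spec (CommRingCat.of B) ⟶ S) (s' : Spec (CommRingCat.of B') ⟶ S)
    (s'' : Spec (CommRingCat.of B'') ⟶ S) (h : Spec.map (CommRingCat.ofHom ψ) ≫ s = s')
    (h' : Spec.map (CommRingCat.ofHom ψ') ≫ s' = s'')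
    (h'' : Spec.map (CommRingCat.ofHom (ψ'.comp ψ)) ≫ s = s'') :
    res ψ' s' s'' h' ≫ res ψ s s' h = res (ψ'.comp ψ) s s'' h'' := by
  ext1
  simp only [res, Over.comp_left, Over.homMk_left]
  rw [← Spec.map_comp, ← CommRingCat.ofHom_comp]

omit [UniqueProds (Multiplicative M)] in
theorem pt_mul_comp {H : Over S} [GrpObj H] (u : Red.DS S M ⟶ H) [IsMonHom u] {B : Type u} [CommRing B]
    (s : Spec (CommRingCat.of B) ⟶ S) (χ χ' : Multiplicative M →* B) :
    pt s (χ * χ') ≫ u = (pt s χ ≫ u) * (pt s χ' ≫ u) := by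
  rw [pt_mul, MonObj.mul_comp]

/-- The torus lemma, residually trivial case. -/
theorem exists_of_residually_trivial {H : Over S} [GrpObj H] (u : Red.DS S M ⟶ H) [IsMonHom u]
    [Mono u] (r : Spec (CommRingCat.of R) ⟶ S) (rK : Spec (CommRingCat.of K) ⟶ S)
    (hrK : Spec.map (CommRingCat.ofHom (algebraMap R K)) ≫ r = rK)
    (rk : Spec (CommRingCat.of (ResidueField R)) ⟶ S)
    (hrk : Spec.map (CommRingCat.ofHom (residue R)) ≫ r = rk)
    (h : Over.mk r ⟶ H) (c : Multiplicative M →* K)
    (hK : pt rK c ≫ u = res (algebraMap R K) r rK hrK ≫ h)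
    (hk : res (residue R) r rk hrk ≫ h = 1) :
    ∃ d : Multiplicative M →* R, pt r d ≫ u = h := by
  -- the test objects
  let B := TorBridge.B R (Multiplicative M)
  let E := ResidueField B
  let L := TorBridge.L K (Multiplicative M)
  let ιL : B →+* L := TorBridge.ι R K (Multiplicative M)
  let sB : Spec (CommRingCat.of B) ⟶ S := Spec.map (CommRingCat.ofHom (φB M R)) ≫ r
  let sE : Spec (CommRingCat.of E) ⟶ S := Spec.map (CommRingCat.ofHom (residue B)) ≫ sB
  let sL : Spec (CommRingCat.of L) ⟶ S := Spec.map (CommRingCat.ofHom ιL) ≫ sB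
  let τB : Over.mk sB ⟶ Red.DS S M := pt sB (χB M R)
  let hB : Over.mk sB ⟶ H := res (φB M R) r sB rfl ≫ h
  let x : ℕ → (Over.mk sB ⟶ H) := fun N ↦ (τB ≫ u) * hB ^ N
  let eE : Over.mk sE ⟶ Over.mk sB := res (residue B) sB sE rfl
  let eL : Over.mk sL ⟶ Over.mk sB := res ιL sB sL rfl
  -- restriction to the closed point
  have hE : eE ≫ hB = 1 := by
    have h1 : (residue B).comp (φB M R) = (ResidueField.map (φB M R)).comp (residue R) := by
      ext a; rfl
    have h2 : Spec.map (CommRingCat.ofHom (ResidueField.map (φB M R))) ≫ rk = sE := by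
      rw [← hrk]
      simp only [sE, sB]
      rw [← Spec.map_comp_assoc, ← Spec.map_comp_assoc, ← CommRingCat.ofHom_comp,
        ← CommRingCat.ofHom_comp, h1]
    have h3 : eE ≫ res (φB M R) r sB rfl =
        res (ResidueField.map (φB M R)) rk sE h2 ≫ res (residue R) r rk hrk := by
      ext1
      simp only [eE, res, Over.comp_left, Over.homMk_left]
      rw [← Spec.map_comp, ← Spec.map_comp, ← CommRingCat.ofHom_comp,
        ← CommRingCat.ofHom_comp, h1]
    simp only [hB]
    rw [← Category.assoc, h3, Category.assoc, hk, MonObj.comp_one]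
  have hxE : ∀ N, eE ≫ x N = eE ≫ τB ≫ u := by
    intro N
    simp only [x]
    rw [MonObj.comp_mul, MonObj.comp_pow, hE, one_pow, _root_.mul_one]
  -- restriction to the generic point
  have hκL : Spec.map (CommRingCat.ofHom (κL M K)) ≫ rK = sL := by
    rw [← hrK]
    simp only [sL, sB]
    rw [← Spec.map_comp_assoc, ← Spec.map_comp_assoc, ← CommRingCat.ofHom_comp,
      ← CommRingCat.ofHom_comp, ι_comp_φB]
  have hLB : eL ≫ hB = pt sL ((κL M K : K →* L).comp c) ≫ u := by
    have h3 : eL ≫ res (φB M R) r sB rfl =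
        res (κL M K) rK sL hκL ≫ res (algebraMap R K) r rK hrK := by
      ext1
      simp only [eL, res, Over.comp_left, Over.homMk_left]
      rw [← Spec.map_comp, ← Spec.map_comp, ← CommRingCat.ofHom_comp,
        ← CommRingCat.ofHom_comp, ι_comp_φB]
    simp only [hB]
    rw [← Category.assoc, h3, Category.assoc, ← hK, ← Category.assoc, res_pt]
  have hσs : ∀ N, Spec.map (CommRingCat.ofHom (TorBridge.σ c N)) ≫ sL = sL := by
    intro N
    rw [← hκL, ← Spec.map_comp_assoc, ← CommRingCat.ofHom_comp]
    congr 3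
    ext a
    exact σ_κL c N a
  have hxL : ∀ N, eL ≫ x N = res (TorBridge.σ c N) sL sL (hσs N) ≫ eL ≫ x 0 := by
    intro N
    have h1 : eL ≫ x N =
        pt sL (((ιL : B →* L).comp (χB M R)) * ((κL M K : K →* L).comp c) ^ N) ≫ u := by
      simp only [x]
      rw [MonObj.comp_mul, MonObj.comp_pow, hLB,
        ← MonObj.pow_comp (pt sL ((κL M K : K →* L).comp c)) N u, ← pt_pow, ← Category.assoc]
      simp only [τB, eL]
      rw [res_pt, ← MonObj.mul_comp (pt sL ((ιL : B →* L).comp (χB M R)))
        (pt sL (((κL M K : K →* L).comp c) ^ N)) u, ← pt_mul]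
    have h2 : eL ≫ x 0 = pt sL ((ιL : B →* L).comp (χB M R)) ≫ u := by
      simp only [x]
      rw [pow_zero, _root_.mul_one, ← Category.assoc]
      simp only [τB, eL]
      rw [res_pt]
    rw [h1, h2, ← Category.assoc, res_pt]
    congr 2
    ext γ
    exact (σ_ι_χB c N γ).symm
  -- the image of the closed point
  let ξ : H.left := (x 0).left (closedPoint B)
  have hpt : ∀ N, (x N).left (closedPoint B) = (eE ≫ x N).left (closedPoint E) := by
    intro N
    have : eE.left (closedPoint E) = closedPoint B := comap_closedPoint (residue B)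
    rw [Over.comp_left, Scheme.Hom.comp_apply, this]
  have hξ : ∀ N, (x N).left (closedPoint B) = ξ := by
    intro N
    simp only [ξ]
    rw [hpt N, hpt 0, hxE, hxE]
  choose ψ hψl hψ using fun N ↦ exists_stalk_factor (x N).left ξ (hξ N)
  have hψE : ∀ N, ψ N ≫ CommRingCat.ofHom (residue B) = ψ 0 ≫ CommRingCat.ofHom (residue B) := by
    intro N
    apply stalk_hom_ext
    rw [Spec.map_comp, Spec.map_comp, Category.assoc, Category.assoc, hψ, hψ]
    have h1 := congr($(hxE N).left)
    have h2 := congr($(hxE 0).left)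
    rw [Over.comp_left] at h1 h2
    exact h1.trans h2.symm
  have hψL : ∀ N, ψ N ≫ CommRingCat.ofHom ιL =
      ψ 0 ≫ CommRingCat.ofHom ιL ≫ CommRingCat.ofHom (TorBridge.σ c N) := by
    intro N
    apply stalk_hom_ext
    rw [Spec.map_comp, Spec.map_comp, Spec.map_comp, Category.assoc, Category.assoc, Category.assoc,
      hψ, hψ]
    exact congr($(hxL N).left)
  -- the residue field at `ξ`
  have hmono : Mono u.left := inferInstance
  have huE : (eE ≫ τB ≫ u).left (closedPoint E) = ξ := by
    rw [← hxE 0, ← hpt 0]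
  obtain ⟨b₀, hb₀⟩ := ImmVal.exists_lift_of_mem_range u.left (k := H.left.residueField ξ)
    (H.left.fromSpecResidueField ξ) (closedPoint (H.left.residueField ξ)) (by
      rw [Scheme.fromSpecResidueField_apply, ← huE]
      exact ⟨(eE ≫ τB).left (closedPoint E), by
        rw [← Scheme.Hom.comp_apply, ← Over.comp_left, Category.assoc]⟩)
  let sκ : Spec (CommRingCat.of (H.left.residueField ξ)) ⟶ S := H.left.fromSpecResidueField ξ ≫ H.hom
  let b : Over.mk sκ ⟶ Red.DS S M := Over.homMk b₀ (by
    have := Over.w u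
    rw [← this, ← Category.assoc, hb₀]
    rfl)
  obtain ⟨β, hβ⟩ := pt_surjective sκ b
  -- the map of residue fields
  have : IsLocalHom (ψ 0 ≫ CommRingCat.ofHom (residue B)).hom := by
    have h1 : IsLocalHom (residue B) := inferInstance
    have h2 := hψl 0
    change IsLocalHom ((residue B).comp (ψ 0).hom)
    exact RingHom.isLocalHom_comp _ _
  let ρ : H.left.residueField ξ ⟶ CommRingCat.of E :=
    Scheme.descResidueField (ψ 0 ≫ CommRingCat.ofHom (residue B))
  have hρ : H.left.residue ξ ≫ ρ = ψ 0 ≫ CommRingCat.ofHom (residue B) :=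
    Scheme.residue_descResidueField _
  have hρ' : Spec.map ρ ≫ H.left.fromSpecResidueField ξ = (eE ≫ τB ≫ u).left := by
    rw [Scheme.fromSpecResidueField, ← Spec.map_comp_assoc, hρ, Spec.map_comp, Category.assoc, hψ,
      ← hxE 0, Over.comp_left]
    rfl
  have hρs : Spec.map (CommRingCat.ofHom ρ.hom) ≫ sκ = sE := by
    have h1 : Spec.map (CommRingCat.ofHom ρ.hom) ≫ H.left.fromSpecResidueField ξ =
      (eE ≫ τB ≫ u).left := hρ'
    simp only [sκ]
    rw [← Category.assoc, h1]
    exact Over.w _
  have hb : res ρ.hom sκ sE hρs ≫ b = eE ≫ τB := by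
    rw [← cancel_mono u]
    ext1
    rw [Over.comp_left, Over.comp_left, Category.assoc]
    change Spec.map (CommRingCat.ofHom ρ.hom) ≫ b₀ ≫ u.left = _
    rw [hb₀, Category.assoc]
    exact hρ'
  have hβρ : ∀ γ, ρ.hom (β γ) = residue B (χB M R γ) := by
    intro γ
    have h1 : pt sE ((ρ.hom : _ →* E).comp β) = pt sE ((residue B : B →* E).comp (χB M R)) := by
      rw [← res_pt ρ.hom sκ sE hρs, hβ, hb]
      simp only [eE, τB]
      rw [res_pt]
    exact DFunLike.congr_fun (pt_injective sE h1) γ
  -- functions near `ξ` lifting the characters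
  choose f hf using fun γ ↦ Scheme.residue_surjective H.left ξ (β γ)
  have hfres : ∀ γ N, residue B (ψ N (f γ)) = residue B (χB M R γ) := by
    intro γ N
    have h1 : residue B (ψ N (f γ)) = residue B (ψ 0 (f γ)) := congr($(hψE N) (f γ))
    have h2 : ρ.hom (H.left.residue ξ (f γ)) = residue B (ψ 0 (f γ)) := congr($hρ (f γ))
    rw [h1, ← h2, hf, hβρ]
  obtain ⟨d, hd, hd1⟩ := TorBridge.main c (fun γ N ↦ ψ N (f γ))
    (fun γ N ↦ by
      rw [← residue_eq_zero_iff, map_sub, hfres γ N, χB_apply, sub_self])
    (fun γ N ↦ congr($(hψL N) (f γ)))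
  refine ⟨d, ?_⟩
  ext1
  refine eq_of_generic_of_closed K _ _ ?_ ?_
  · have h1 : res (algebraMap R K) r rK hrK ≫ pt r d ≫ u = res (algebraMap R K) r rK hrK ≫ h := by
      rw [← hK, ← Category.assoc, res_pt]
      congr 2
      ext γ
      exact hd γ
    exact congr($(h1).left)
  · have h1 : res (residue R) r rk hrk ≫ pt r d ≫ u = res (residue R) r rk hrk ≫ h := by
      rw [hk, ← Category.assoc, res_pt]
      have h2 : ((residue R : R →* ResidueField R).comp d) = 1 := by
        ext γ
        have := (residue_eq_zero_iff _).mpr (hd1 γ)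
        rw [map_sub, map_one, sub_eq_zero] at this
        exact this
      rw [h2, pt_one, MonObj.one_comp]
    have h4 : (res (residue R) r rk hrk).left (closedPoint (ResidueField R)) = closedPoint R :=
      comap_closedPoint (residue R)
    have key : ∀ z : Over.mk r ⟶ H, (res (residue R) r rk hrk ≫ z).left
        (closedPoint (ResidueField R)) = z.left (closedPoint R) := fun z ↦ by
      rw [Over.comp_left, Scheme.Hom.comp_apply, h4]
    exact (key _).symm.trans ((congr($(h1).left (closedPoint (ResidueField R)))).trans (key _))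

omit [IsDomain R] [ValuationRing R] [UniqueProds (Multiplicative M)] in
/-- Characters of a free group lift from the residue field. -/
theorem exists_lift_char [IsLocalRing R] [Module.Free ℤ M] (ck : Multiplicative M →* ResidueField R) :
    ∃ e : Multiplicative M →* R, (residue R : R →* ResidueField R).comp e = ck := by
  let b := Module.Free.chooseBasis ℤ M
  have h1 : ∀ i, ∃ w : Rˣ, residue R w = ck (Multiplicative.ofAdd (b i)) := fun i ↦ by
    obtain ⟨x, hx⟩ := residue_surjective (R := R) (ck (Multiplicative.ofAdd (b i)))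
    have hx' : IsUnit x := by
      by_contra h
      rw [(residue_eq_zero_iff x).mpr h] at hx
      exact TorBridge.ne_zero_of_char ck _ hx.symm
    exact ⟨hx'.unit, hx⟩
  choose w hw using h1
  let f : M →ₗ[ℤ] Additive Rˣ := b.constr ℤ (fun i ↦ Additive.ofMul (w i))
  let e : Multiplicative M →* Rˣ := AddMonoidHom.toMultiplicativeLeft f.toAddMonoidHom
  have he : ∀ i, e (Multiplicative.ofAdd (b i)) = w i := fun i ↦ by
    change Additive.toMul (f (b i)) = w i
    rw [b.constr_basis]
    rfl
  refine ⟨(Units.coeHom R).comp e, ?_⟩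
  let g₁ : M →+ Additive (ResidueField R)ˣ := MonoidHom.toAdditiveRight
    (((residue R : R →* ResidueField R).comp ((Units.coeHom R).comp e)).toHomUnits)
  let g₂ : M →+ Additive (ResidueField R)ˣ := MonoidHom.toAdditiveRight ck.toHomUnits
  have h2 : g₁.toIntLinearMap = g₂.toIntLinearMap := by
    refine b.ext fun i ↦ ?_
    change Additive.ofMul (((residue R : R →* ResidueField R).comp
      ((Units.coeHom R).comp e)).toHomUnits (Multiplicative.ofAdd (b i))) =
      Additive.ofMul (ck.toHomUnits (Multiplicative.ofAdd (b i)))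
    congr 1
    ext
    change residue R ((e (Multiplicative.ofAdd (b i)) : Rˣ) : R) = ck (Multiplicative.ofAdd (b i))
    rw [he, hw]
  ext γ
  have h3 := LinearMap.congr_fun h2 (Multiplicative.toAdd γ)
  have h4 := congrArg (fun x : Additive (ResidueField R)ˣ ↦ ((Additive.toMul x : (ResidueField R)ˣ) :
    ResidueField R)) h3
  exact h4

/-- **The torus lemma**: an `R`-point of `H` whose generic and closed points are in `T = D_S(M)`
is in `T(R)`. -/
theorem exists_lift [Module.Free ℤ M] {H : Over S} [GrpObj H] (u : Red.DS S M ⟶ H) [IsMonHom u]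
    [Mono u] (r : Spec (CommRingCat.of R) ⟶ S)
    (h : Over.mk r ⟶ H)
    (tK : Over.mk (Spec.map (CommRingCat.ofHom (algebraMap R K)) ≫ r) ⟶ Red.DS S M)
    (hK : tK ≫ u = res (algebraMap R K) r _ rfl ≫ h)
    (tk : Over.mk (Spec.map (CommRingCat.ofHom (residue R)) ≫ r) ⟶ Red.DS S M)
    (hk : tk ≫ u = res (residue R) r _ rfl ≫ h) :
    ∃ t : Over.mk r ⟶ Red.DS S M, t ≫ u = h := by
  obtain ⟨c, rfl⟩ := pt_surjective _ tK
  obtain ⟨ck, rfl⟩ := pt_surjective _ tk
  -- lift `ck` to `R`
  obtain ⟨e, he⟩ := exists_lift_char ck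
  let e' : Multiplicative M →* R := e.comp (invMonoidHom : Multiplicative M →* Multiplicative M)
  have hee : e * e' = 1 := by
    refine MonoidHom.ext fun γ ↦ ?_
    change e γ * e γ⁻¹ = 1
    rw [← map_mul, mul_inv_cancel, map_one]
  let h₁ : Over.mk r ⟶ H := (pt r e' ≫ u) * h
  have h1 : res (residue R) r _ rfl ≫ h₁ = 1 := by
    simp only [h₁]
    rw [MonObj.comp_mul, ← hk, ← Category.assoc, res_pt, ← pt_mul_comp]
    have : (residue R : R →* ResidueField R).comp e' * ck = 1 := by
      rw [← he]
      refine MonoidHom.ext fun γ ↦ ?_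
      change residue R (e γ⁻¹) * residue R (e γ) = 1
      rw [← map_mul, ← map_mul, inv_mul_cancel, map_one, map_one]
    rw [this, pt_one, MonObj.one_comp]
  have h2 : pt (Spec.map (CommRingCat.ofHom (algebraMap R K)) ≫ r)
      (((algebraMap R K : R →* K).comp e') * c) ≫ u = res (algebraMap R K) r _ rfl ≫ h₁ := by
    simp only [h₁]
    rw [MonObj.comp_mul, ← hK, ← Category.assoc, res_pt, pt_mul_comp]
  obtain ⟨d, hd⟩ := exists_of_residually_trivial u r _ rfl _ rfl h₁ _ h2 h1
  refine ⟨pt r e * pt r d, ?_⟩
  rw [MonObj.mul_comp, hd]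
  simp only [h₁]
  rw [← _root_.mul_assoc, ← pt_mul_comp, hee, pt_one, MonObj.one_comp]
  exact _root_.one_mul _

end

end Groth.Agent.Sga3.H824.TorVal
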